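import Cfsg.Agent.Lib.Fi22Local.Triples
import Cfsg.Agent.Lib.Fi22Local.Fast
import Cfsg.Agent.Lib.FischerPresented.Fi22Outer
import Cfsg.Agent.Lib.Fi22OutInv.Data

/-!
Automorphisms of presented Fi22 as maps of the transposition numbers.
-/

set_option autoImplicit false
set_option maxRecDepth 100000

namespace Cfsg.Agent.Fi22OutInv

open Cfsg.Agent.CosetCert
open Cfsg.Agent.CosetData
open Cfsg.Agent.FischerPresented
open Cfsg.Agent.FischerPresented.Out22 (gpt tr_gpt)
open Cfsg.Agent.Fi22Local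

local notation "AA" => MulAut GG

/-- The diagram symmetry. -/
noncomputable abbrev sigma : AA := Fi22Outer.sigma

/-- The symmetry on transposition numbers. -/
noncomputable abbrev sP : ℕ → ℕ := Out22.sigPt

/-- An automorphism induces this map on transposition numbers. -/
def Pt (f : AA) (F : ℕ → ℕ) : Prop := ∀ p < 3510, F p < 3510 ∧ f (trN p) = trN (F p)

theorem Pt.mul {f g : AA} {F G : ℕ → ℕ} (hf : Pt f F) (hg : Pt g G) :
    Pt (f * g) fun p => F (G p) := fun p hp => by
  obtain ⟨h1, h2⟩ := hg p hp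
  obtain ⟨h3, h4⟩ := hf _ h1
  exact ⟨h3, by rw [MulAut.mul_apply, h2, h4]⟩

theorem Pt.of_eq {f : AA} {F G : ℕ → ℕ} (hf : Pt f F) (h : ∀ p < 3510, F p = G p) : Pt f G :=
  fun p hp => h p hp ▸ hf p hp

theorem Pt.one : Pt 1 fun p => p := fun _ hp => ⟨hp, rfl⟩

theorem Pt.fix_iff {f : AA} {F : ℕ → ℕ} (hf : Pt f F) {p : ℕ} (hp : p < 3510) :
    f (trN p) = trN p ↔ F p = p := by
  rw [(hf p hp).2]
  exact ⟨fun h => trN_inj (hf p hp).1 hp h, fun h => by rw [h]⟩

theorem pt_conj (g : GG) : Pt (MulAut.conj g) (apt g) := fun _ hp =>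
  ⟨apt_lt g hp, (trN_apt g hp).symm⟩

theorem gen_eq {x : ℕ} (hx : x < 9) : gpt x < 3510 ∧ trN (gpt x) = gn x := by
  obtain ⟨hlt, e⟩ := tr_gpt hx
  exact ⟨hlt, (trN_eq hlt).trans e⟩

/-- Two automorphisms with the same map agree. -/
theorem Pt.ext {f g : AA} {F G : ℕ → ℕ} (hf : Pt f F) (hg : Pt g G)
    (h : ∀ x < 9, F (gpt x) = G (gpt x)) : f = g := by
  have he : f.toMonoidHom = g.toMonoidHom := by
    refine MonoidHom.eq_of_eqOn_dense (Setup.closure_gen Fi22B.setup) ?_
    rintro _ ⟨x, hx, rfl⟩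
    obtain ⟨hlt, e⟩ := gen_eq hx
    show f (gn x) = g (gn x)
    rw [← e, (hf _ hlt).2, (hg _ hlt).2, h x hx]
  exact MulEquiv.ext fun a => DFunLike.congr_fun he a

theorem pt_sigma : Pt sigma sP := by
  obtain ⟨h0, hall⟩ := Bool.and_eq_true _ _ ▸ Out22.sigPt_ok
  have hlt : ∀ p < 3510, sP p < 3510 := fun p hp => by
    have := allBelow_spec hall hp
    simp only [Bool.and_eq_true, Nat.blt_eq] at this
    exact this.1.1
  have hstep : ∀ x < 9, ∀ p < 3510, sigma (trN p) = trN (sP p) →
      sigma (trN (apt (gn x) p)) = trN (sP (apt (gn x) p)) := by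
    intro x hx p hp h
    have hm := allBelow_spec Out22.mir_ok hx
    simp only [Bool.and_eq_true, Nat.blt_eq] at hm
    rw [trN_apt _ hp, map_mul, map_mul, map_inv, h,
      show sigma (gn x) = gn (Out22.mir x) from Fi22Outer.sigma_gen hx, ← trN_apt _ (hlt p hp)]
    congr 1
    have hh := allBelow_spec hall hp
    simp only [Bool.and_eq_true] at hh
    have e := Nat.eq_of_beq_eq_true (allBelow_spec hh.2 hx)
    rw [apt_of_lt _ (hlt p hp), apt_of_lt _ hp, Out22.hom_gen_val hm.1, Out22.hom_gen_val hx]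
    exact e.symm
  have h00 : sigma (trN 0) = trN (sP 0) := by
    rw [show trN 0 = gn 0 from (show gpt 0 = 0 by decide +kernel) ▸ (gen_eq (show 0 < 9 by norm_num)).2,
      show sigma (gn 0) = gn (Out22.mir 0) from Fi22Outer.sigma_gen (by norm_num),
      show sP 0 = gpt 6 from Nat.eq_of_beq_eq_true h0, (gen_eq (show 6 < 9 by norm_num)).2,
      show Out22.mir 0 = 6 by decide +kernel]
  intro p hp
  refine ⟨hlt p hp, ?_⟩
  have key : ∀ g : GG, ∀ p < 3510, sigma (trN p) = trN (sP p) →
      sigma (trN (apt g p)) = trN (sP (apt g p)) := by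
    intro g
    have hg : g ∈ Subgroup.closure (gn '' {x | x < 9}) :=
      Setup.closure_gen Fi22B.setup ▸ Subgroup.mem_top g
    induction hg using Subgroup.closure_induction'' with
    | mem y hy => obtain ⟨x, hx, rfl⟩ := hy; exact hstep x hx
    | inv_mem y hy =>
      obtain ⟨x, hx, rfl⟩ := hy
      rw [inv_eq_of_mul_eq_one_right (Setup.gen_invol Fi22B.setup x)]
      exact hstep x hx
    | one => intro p hp h; rwa [apt_one]
    | mul a b _ _ iha ihb =>
      intro p hp h
      rw [apt_mul]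
      exact iha _ (apt_lt b hp) (ihb p hp h)
  obtain ⟨g, hg⟩ := Triple.exists_base hp
  rw [← hg]
  exact key g 0 (by norm_num) h00

/-! ### Products of transpositions -/

/-- The action of a product of transpositions. -/
noncomputable def tl (l : List ℕ) (p : ℕ) : ℕ := List.rec p (fun a _ r => tappF a r) l

/-- A product of transpositions. -/
noncomputable def prodT (l : List ℕ) : GG := (l.map trN).prod

theorem prodT_cons (a : ℕ) (l : List ℕ) : prodT (a :: l) = trN a * prodT l := rfl

/-- All entries are transposition numbers. -/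
def ptsL (l : List ℕ) : Bool := l.all fun a => Nat.blt a 3510

theorem tl_spec : ∀ {l : List ℕ}, ptsL l = true → ∀ {p : ℕ}, p < 3510 →
    apt (prodT l) p = tl l p ∧ tl l p < 3510
  | [], _, p, hp => ⟨apt_one p, hp⟩
  | a :: l, hl, p, hp => by
    simp only [ptsL, List.all_cons, Bool.and_eq_true, Nat.blt_eq] at hl
    obtain ⟨h1, h2⟩ := tl_spec (l := l) hl.2 hp
    obtain ⟨h3, h4⟩ := tappF_eq hl.1 h2
    refine ⟨?_, h4⟩
    show _ = tappF a (tl l p)
    rw [prodT_cons, apt_mul, h1, apt_trN hl.1 h2, h3]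

theorem pt_prodT {l : List ℕ} (hl : ptsL l = true) : Pt (MulAut.conj (prodT l)) (tl l) :=
  (pt_conj _).of_eq fun _ hp => (tl_spec hl hp).1

theorem trN_sq' {p : ℕ} (hp : p < 3510) : trN p * trN p = 1 := Triple.trN_sq hp

theorem prodT_reverse : ∀ {l : List ℕ}, ptsL l = true → prodT l.reverse = (prodT l)⁻¹
  | [], _ => by simp [prodT]
  | a :: l, hl => by
    simp only [ptsL, List.all_cons, Bool.and_eq_true, Nat.blt_eq] at hl
    rw [prodT_cons, mul_inv_rev, ← prodT_reverse (l := l) hl.2,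
      inv_eq_of_mul_eq_one_right (trN_sq' hl.1), List.reverse_cons, prodT, List.map_append, List.prod_append]
    simp [prodT]

theorem ptsL_reverse {l : List ℕ} : ptsL l.reverse = ptsL l := by simp [ptsL]

theorem pt_trN {a : ℕ} (ha : a < 3510) : Pt (MulAut.conj (trN a)) (tappF a) :=
  (pt_conj _).of_eq fun _ hp => by rw [apt_trN ha hp, (tappF_eq ha hp).1]

theorem pt_word {w : List ℕ} (hw : wok w = true) :
    Pt (MulAut.conj (wprod gn w)) (actF w.reverse) :=
  (pt_conj _).of_eq fun p hp => by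
    have hwr : wok w.reverse = true := by simpa [wok] using hw
    rw [show wprod gn w = el w.reverse by rw [el, List.reverse_reverse], apt_el hwr hp, (actF_eq hwr hp).1]

/-- Agreement on the nine generating points, checked. -/
noncomputable def agree (F G : ℕ → ℕ) : Bool := allBelow (fun x => Nat.beq (F (gpt x)) (G (gpt x))) 9

theorem agree_spec {f g : AA} {F G : ℕ → ℕ} (hf : Pt f F) (hg : Pt g G) (h : agree F G = true) : f = g :=
  hf.ext hg fun _ hx => Nat.eq_of_beq_eq_true (allBelow_spec h hx)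

end Cfsg.Agent.Fi22OutInv
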