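import Cfsg.Agent.Lib.Fi22OutInv.Basic

/-! Kernel checks for the classification of the outer involutions of presented Fi22. -/

set_option autoImplicit false
set_option maxRecDepth 100000
set_option Elab.async false

namespace Cfsg.Agent.Fi22OutInv

open Cfsg.Agent.CosetCert
open Cfsg.Agent.CosetData
open Cfsg.Agent.FischerPresented
open Cfsg.Agent.FischerPresented.Fi22Two (basisW liftW MT)
open Cfsg.Agent.FischerPresented.Fi22Outer (tW TM outerData)
open Cfsg.Agent.Fi22Local

/-- The word of a representative. -/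
def RW (i q : ℕ) : List ℕ := TwoCert.words basisW q ++ TwoCert.words liftW i ++ tW

/-- A representative on transposition numbers. -/
noncomputable def RP (i q p : ℕ) : ℕ := actF (RW i q).reverse (sP p)

/-- A conjugate of the symmetry on transposition numbers. -/
noncomputable def TP (t : List ℕ) (p : ℕ) : ℕ := tl t (sP (tl t.reverse p))

/-- The certificate of a representative of the first kind. -/
noncomputable def rootOK (r : ℕ × ℕ × List ℕ) : Bool :=
  wok (RW r.1 r.2.1) && (ptsL r.2.2 && agree (RP r.1 r.2.1) (TP r.2.2))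

/-- The certificate of a transposition in the normal elementary subgroup. -/
noncomputable def trOK (r : ℕ × ℕ) : Bool :=
  Nat.blt r.2 3510 && (wok (TwoCert.words basisW r.1) &&
    agree (actF (TwoCert.words basisW r.1).reverse) (tappF r.2))

/-- The image of a vector under a representative. -/
noncomputable def LL (i v : ℕ) : ℕ := TwoCert.app (MT.getD i []) (TwoCert.app TM v)

/-- The certificate of a step down to an earlier kind. -/
noncomputable def downOK (L : List (ℕ × ℕ)) (r : ℕ × ℕ × ℕ × ℕ × ℕ) : Bool :=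
  Nat.blt r.1 128 && (Nat.blt r.2.2.1 1024 && (trL.any (fun t => Nat.beq t.1 r.2.2.1) &&
    (Nat.beq (LL r.1 r.2.2.1) r.2.2.1 && (Nat.blt r.2.2.2.2 1024 && (Nat.blt r.2.2.2.1 L.length &&
      (Nat.beq r.1 (L.getD r.2.2.2.1 (0, 0)).1 &&
        Nat.beq (Nat.xor r.2.1 r.2.2.1)
          (Nat.xor (Nat.xor r.2.2.2.2 (L.getD r.2.2.2.1 (0, 0)).2) (LL r.1 r.2.2.2.2))))))))

/-- The certificate of a representative two transpositions away. -/
noncomputable def badOK (r : ℕ × ℕ × ℕ × ℕ × List ℕ) : Bool :=
  wok (RW r.1 r.2.1) && (Nat.blt r.2.2.1 3510 && (Nat.blt r.2.2.2.1 3510 && (ptsL r.2.2.2.2 &&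
    (Nat.beq (RP r.1 r.2.1 r.2.2.1) r.2.2.1 &&
      (Nat.beq (RP r.1 r.2.1 (tappF r.2.2.1 r.2.2.2.1)) r.2.2.2.1 &&
        agree (fun p => RP r.1 r.2.1 (tappF r.2.2.1 (tappF r.2.2.2.1 p))) (TP r.2.2.2.2))))))

theorem root_part0 : ((rootL.take 9).all rootOK) = true := by decide +kernel

theorem root_part1 : ((rootL.drop 9).all rootOK) = true := by decide +kernel

theorem bad_part0 : ((badL.take 9).all badOK) = true := by decide +kernel

theorem bad_part1 : ((badL.drop 9).all badOK) = true := by decide +kernel

theorem tr_checked : (trL.all trOK) = true := by decide +kernel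

theorem one_checked : (oneL.all (downOK (rootL.map fun r => (r.1, r.2.1)))) = true := by decide +kernel

theorem two_checked : (twoL.all (downOK (oneL.map fun r => (r.1, r.2.1)))) = true := by decide +kernel

theorem cover_checked : (outerData.all fun e => e.2.2.all fun r =>
    (rootL.any fun x => Nat.beq x.1 e.1 && Nat.beq x.2.1 r.1) ||
    ((oneL.any fun x => Nat.beq x.1 e.1 && Nat.beq x.2.1 r.1) ||
    ((twoL.any fun x => Nat.beq x.1 e.1 && Nat.beq x.2.1 r.1) ||
      (badL.any fun x => Nat.beq x.1 e.1 && Nat.beq x.2.1 r.1)))) = true := by decide +kernel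

end Cfsg.Agent.Fi22OutInv
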