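import Cfsg.Agent.Lib.Fi22OutInv.Checks

/-!
Every outer involution of presented Fi22 is the diagram symmetry times at most two fixed transpositions.
-/

set_option autoImplicit false
set_option maxRecDepth 100000

namespace Cfsg.Agent.Fi22OutInv

open Cfsg.Agent.CosetCert
open Cfsg.Agent.CosetData
open Cfsg.Agent.FischerPresented
open Cfsg.Agent.FischerPresented.Fi22Two (basisW liftW MT sys sv_eq va_eq)
open Cfsg.Agent.FischerPresented.Fi22Outer (tW TM outerData tau tau_va aut_D)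
open Cfsg.Agent.Fi22Local

local notation "AA" => MulAut GG
local notation "wp" => wprod (Setup.gen Fi22B.setup)

/-- Conjugate to the symmetry. -/
def P1 (f : AA) : Prop := IsConj sigma f

/-- One fixed transposition away from the first kind. -/
def P2 (f : AA) : Prop := ∃ d ∈ Fi22Class.D, f d = d ∧ P1 (f * MulAut.conj d)

/-- One fixed transposition away from the second kind. -/
def P3 (f : AA) : Prop := ∃ d ∈ Fi22Class.D, f d = d ∧ P2 (f * MulAut.conj d)

theorem P1.conj {f : AA} (h : P1 f) (g : AA) : P1 (g * f * g⁻¹) :=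
  IsConj.trans h (isConj_iff.2 ⟨g, rfl⟩)

theorem step_conj {P : AA → Prop} (hP : ∀ f, P f → ∀ g : AA, P (g * f * g⁻¹)) (f : AA)
    (h : ∃ d ∈ Fi22Class.D, f d = d ∧ P (f * MulAut.conj d)) (g : AA) :
    ∃ d ∈ Fi22Class.D, (g * f * g⁻¹) d = d ∧ P (g * f * g⁻¹ * MulAut.conj d) := by
  obtain ⟨d, hd, hf, hp⟩ := h
  refine ⟨g d, aut_D g hd, by simp [MulAut.mul_apply, hf], ?_⟩
  have e : g * f * g⁻¹ * MulAut.conj (g d) = g * (f * MulAut.conj d) * g⁻¹ := by
    ext v
    simp [MulAut.mul_apply, MulAut.conj_apply]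
  rw [e]
  exact hP _ hp g

theorem P2.conj {f : AA} (h : P2 f) (g : AA) : P2 (g * f * g⁻¹) :=
  step_conj (P := P1) (fun _ h g => P1.conj h g) f h g

theorem P3.conj {f : AA} (h : P3 f) (g : AA) : P3 (g * f * g⁻¹) :=
  step_conj (P := P2) (fun _ h g => P2.conj h g) f h g

/-- A representative. -/
noncomputable def R (i q : ℕ) : AA := MulAut.conj (wp (RW i q)) * sigma

theorem R_tau (i q : ℕ) : R i q = MulAut.conj (sys.va q * sys.sv i) * tau := by
  rw [R, RW, wprod_append, wprod_append, ← va_eq, ← sv_eq, map_mul, mul_assoc, tau]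

theorem pt_R {i q : ℕ} (h : wok (RW i q) = true) : Pt (R i q) (RP i q) := (pt_word h).mul pt_sigma

theorem pt_TP {t : List ℕ} (h : ptsL t = true) :
    Pt (MulAut.conj (prodT t) * sigma * (MulAut.conj (prodT t))⁻¹) (TP t) := by
  rw [← map_inv, ← prodT_reverse h]
  exact ((pt_prodT h).mul pt_sigma).mul (pt_prodT (ptsL_reverse.trans h))

theorem root_P1 {r : ℕ × ℕ × List ℕ} (h : r ∈ rootL) : P1 (R r.1 r.2.1) := by
  have hr : rootOK r = true := by
    rw [← List.take_append_drop 9 rootL, List.mem_append] at h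
    rcases h with h | h
    · exact List.all_eq_true.1 root_part0 r h
    · exact List.all_eq_true.1 root_part1 r h
  simp only [rootOK, Bool.and_eq_true] at hr
  exact isConj_iff.2 ⟨_, (agree_spec (pt_R hr.1) (pt_TP hr.2.1) hr.2.2).symm⟩

theorem bad_P3 {r : ℕ × ℕ × ℕ × ℕ × List ℕ} (h : r ∈ badL) : P3 (R r.1 r.2.1) := by
  have hr : badOK r = true := by
    rw [← List.take_append_drop 9 badL, List.mem_append] at h
    rcases h with h | h
    · exact List.all_eq_true.1 bad_part0 r h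
    · exact List.all_eq_true.1 bad_part1 r h
  simp only [badOK, Bool.and_eq_true, Nat.blt_eq, Nat.beq_eq] at hr
  obtain ⟨hw, hx, hy, ht, hfx, hfy, hag⟩ := hr
  have hR := pt_R hw
  refine ⟨trN r.2.2.1, trN_mem hx, (hR.fix_iff hx).2 hfx, trN r.2.2.2.1, trN_mem hy,
    ((hR.mul (pt_trN hx)).fix_iff hy).2 hfy, ?_⟩
  exact isConj_iff.2 ⟨_, (agree_spec ((hR.mul (pt_trN hx)).mul (pt_trN hy))
    (pt_TP ht) hag).symm⟩

theorem act_eq {i v : ℕ} (hi : i < 128) (hv : v < 1024) :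
    TwoCert.act sys.GM i (TwoCert.app TM v) = LL i v :=
  (sys.app_table hi (Fi22Outer.tm_lt v)).symm

theorem R_va {i e : ℕ} (q : ℕ) (hi : i < 128) (he : e < 1024) :
    R i q * MulAut.conj (sys.va e) = MulAut.conj (sys.va (q ^^^ LL i e) * sys.sv i) * tau := by
  rw [R_tau, mul_assoc, Fi22Outer.tau_conj, ← mul_assoc, ← map_mul, tau_va, mul_assoc (sys.va q),
    sys.sv_mul_va, ← mul_assoc, ← TwoCert.Sys.va_xor, act_eq hi he]

theorem R_shift {i s : ℕ} (q : ℕ) (hi : i < 128) (hs : s < 1024) :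
    R i (s ^^^ q ^^^ LL i s) = MulAut.conj (sys.va s) * R i q * (MulAut.conj (sys.va s))⁻¹ := by
  rw [← map_inv, TwoCert.Sys.va_inv, mul_assoc, R_va q hi hs, ← mul_assoc, ← map_mul, ← mul_assoc,
    ← TwoCert.Sys.va_xor, R_tau, Nat.xor_assoc]

theorem down_step {P : AA → Prop} (hconj : ∀ f, P f → ∀ g : AA, P (g * f * g⁻¹)) {L : List (ℕ × ℕ)}
    (hL : ∀ x ∈ L, P (R x.1 x.2)) {r : ℕ × ℕ × ℕ × ℕ × ℕ} (hr : downOK L r = true) :
    ∃ d ∈ Fi22Class.D, R r.1 r.2.1 d = d ∧ P (R r.1 r.2.1 * MulAut.conj d) := by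
  obtain ⟨i, q, e, k, s⟩ := r
  simp only [downOK, Bool.and_eq_true, Nat.blt_eq, Nat.beq_eq, List.any_eq_true] at hr
  obtain ⟨hi, he, ⟨⟨e', x⟩, hmem, hee⟩, hfix, hs, hk, hik, hx⟩ := hr
  simp only at hee
  subst hee
  have htr := List.all_eq_true.1 tr_checked _ hmem
  simp only [trOK, Bool.and_eq_true, Nat.blt_eq] at htr
  have hva : sys.va e' = trN x := by
    rw [va_eq]
    exact Fi22Outer.conj_inj (agree_spec (pt_word htr.2.1) (pt_trN htr.1) htr.2.2)
  refine ⟨trN x, trN_mem htr.1, ?_, ?_⟩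
  · rw [← hva, R_tau, MulAut.mul_apply, tau_va, MulAut.conj_apply, mul_assoc (sys.va q), sys.sv_mul_va,
      act_eq hi he, hfix, ← mul_assoc, ← TwoCert.Sys.va_xor, Nat.xor_comm, TwoCert.Sys.va_xor, mul_inv_rev]
    group
  · rw [← hva, R_va q hi he, hfix, ← R_tau]
    change Nat.xor q e' = _ at hx
    rw [show q ^^^ e' = _ from hx, hik]
    show P (R _ (s ^^^ _ ^^^ LL _ s))
    rw [← hik, R_shift _ hi hs]
    refine hconj _ ?_ _
    have hm : L.getD k (0, 0) ∈ L := by
      rw [List.getD_eq_getElem _ _ hk]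
      exact List.getElem_mem _
    rw [hik]
    exact hL _ hm

theorem one_P2 {r : ℕ × ℕ × ℕ × ℕ × ℕ} (h : r ∈ oneL) : P2 (R r.1 r.2.1) :=
  down_step (P := P1) (fun _ h g => P1.conj h g) (fun x hx => by
    obtain ⟨y, hy, rfl⟩ := List.mem_map.1 hx
    exact root_P1 hy) (List.all_eq_true.1 one_checked r h)

theorem two_P3 {r : ℕ × ℕ × ℕ × ℕ × ℕ} (h : r ∈ twoL) : P3 (R r.1 r.2.1) :=
  down_step (P := P2) (fun _ h g => P2.conj h g) (fun x hx => by
    obtain ⟨y, hy, rfl⟩ := List.mem_map.1 hx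
    exact one_P2 hy) (List.all_eq_true.1 two_checked r h)

theorem rep_kind {e : ℕ × List ℕ × List (ℕ × List ℕ)} (he : e ∈ outerData) {r : ℕ × List ℕ}
    (hr : r ∈ e.2.2) : P1 (R e.1 r.1) ∨ P2 (R e.1 r.1) ∨ P3 (R e.1 r.1) := by
  have h := List.all_eq_true.1 (List.all_eq_true.1 cover_checked e he) r hr
  simp only [Bool.or_eq_true, List.any_eq_true, Bool.and_eq_true, Nat.beq_eq] at h
  rcases h with ⟨x, hx, h1, h2⟩ | ⟨x, hx, h1, h2⟩ | ⟨x, hx, h1, h2⟩ | ⟨x, hx, h1, h2⟩ <;> rw [← h1, ← h2]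
  · exact Or.inl (root_P1 hx)
  · exact Or.inr (Or.inl (one_P2 hx))
  · exact Or.inr (Or.inr (two_P3 hx))
  · exact Or.inr (Or.inr (bad_P3 hx))

theorem kinds_conj {f : AA} (h : P1 f ∨ P2 f ∨ P3 f) (g : AA) :
    P1 (g * f * g⁻¹) ∨ P2 (g * f * g⁻¹) ∨ P3 (g * f * g⁻¹) := by
  rcases h with h | h | h
  · exact Or.inl (h.conj g)
  · exact Or.inr (Or.inl (h.conj g))
  · exact Or.inr (Or.inr (h.conj g))

theorem outer_kind {t : GG} (ht : t ∈ Fi22Two.T0)
    (hsq : MulAut.conj t * tau * (MulAut.conj t * tau) = 1) :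
    P1 (MulAut.conj t * tau) ∨ P2 (MulAut.conj t * tau) ∨ P3 (MulAut.conj t * tau) := by
  have := Fi22.order_facts.1
  obtain ⟨a, ha : a < 1024, i, hi : i < 128, rfl⟩ := ht
  have hone : sys.va a * sys.sv i * tau (sys.va a * sys.sv i) * wp Fi22Outer.uW = 1 := by
    refine Fi22Outer.conj_inj ?_
    rw [map_one, ← hsq, map_mul MulAut.conj _ (wp Fi22Outer.uW), map_mul MulAut.conj _ (tau _),
      ← Fi22Outer.tau_mul_tau, mul_assoc, ← mul_assoc (MulAut.conj (tau _)) tau tau, ← Fi22Outer.tau_conj]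
    simp only [mul_assoc]
  obtain ⟨hc, hsv⟩ := Fi22Outer.sv_tau hi
  set c := Fi22Outer.sqCode.getD i 0 / 128 with hcdef
  set r := Fi22Outer.sqCode.getD i 0 % 128 with hrdef
  have hM : TwoCert.act sys.GM i (TwoCert.app TM a) < 1024 := sys.act_lt i _ (Fi22Outer.tm_lt a)
  have hprod : sys.va (a ^^^ TwoCert.act sys.GM i (TwoCert.app TM a) ^^^ c) * sys.sv r =
      sys.va 0 * sys.sv 0 := by
    rw [TwoCert.Sys.va_xor, TwoCert.Sys.va_xor, mul_assoc, ← hsv, TwoCert.Sys.va_zero,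
      TwoCert.Sys.sv_zero, one_mul, ← hone, map_mul, tau_va]
    calc sys.va a * sys.va (TwoCert.act sys.GM i (TwoCert.app TM a)) *
          (sys.sv i * tau (sys.sv i) * wp Fi22Outer.uW)
        = sys.va a * (sys.va (TwoCert.act sys.GM i (TwoCert.app TM a)) * sys.sv i) *
            tau (sys.sv i) * wp Fi22Outer.uW := by group
      _ = _ := by rw [← TwoCert.Sys.sv_mul_va]; group
  obtain ⟨h0, hr0⟩ := sys.coords_unique (Nat.xor_lt_two_pow (Nat.xor_lt_two_pow ha hM) hc)
    (Nat.two_pow_pos _) (Nat.mod_lt _ (show 0 < 128 by norm_num)) sys.pos hprod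
  have hb : ∀ q < 4, Fi22Outer.idxBlock q = true := by
    intro q hq
    interval_cases q
    exacts [Fi22Outer.idx0, Fi22Outer.idx1, Fi22Outer.idx2, Fi22Outer.idx3]
  have hidx := List.all_eq_true.1 (hb (i / 32) (by omega)) (i % 32) (List.mem_range.2 (by omega))
  rw [show i / 32 * 32 + i % 32 = i by omega] at hidx
  simp only [Bool.or_eq_true, List.any_eq_true, Nat.beq_eq, Bool.not_eq_true', List.all_eq_true,
    List.mem_range] at hidx
  rw [act_eq hi ha] at h0
  rcases hidx with ⟨e, he, hei⟩ | h | h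
  swap
  · exact absurd hr0 (Nat.ne_of_beq_eq_false h)
  swap
  · exact absurd h0 (Nat.ne_of_beq_eq_false (h a ha))
  subst hei
  have hok : Fi22Outer.outOK e = true := by
    have hsplit : outerData = outerData.take 9 ++ ((outerData.drop 9).take 9 ++
        ((outerData.drop 18).take 9 ++ outerData.drop 27)) := rfl
    have he' := he
    rw [hsplit] at he'
    simp only [List.mem_append] at he'
    rcases he' with h | h | h | h
    · exact List.all_eq_true.1 Fi22Outer.out_part0 e h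
    · exact List.all_eq_true.1 Fi22Outer.out_part1 e h
    · exact List.all_eq_true.1 Fi22Outer.out_part2 e h
    · exact List.all_eq_true.1 Fi22Outer.out_part3 e h
  simp only [Fi22Outer.outOK, Bool.and_eq_true, Nat.blt_eq, List.all_eq_true, List.mem_range,
    Bool.or_eq_true, Bool.not_eq_true', List.any_eq_true, Nat.beq_eq] at hok
  obtain ⟨⟨hB, -⟩, hcov⟩ := hok
  rcases hcov a ha with h | ⟨q, hq, s, hs, hA⟩
  · exact absurd h0 (Nat.ne_of_beq_eq_false h)
  change a = s ^^^ q.1 ^^^ LL e.1 s at hA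
  rw [← R_tau, hA, R_shift q.1 hi (hB s hs)]
  exact kinds_conj (rep_kind he hq) _

/-- Every outer involution is of one of three kinds. -/
theorem classify (f : AA) (h2 : orderOf f = 2) (hout : f ∉ Cfsg.Inn GG) : P1 f ∨ P2 f ∨ P3 f := by
  have := Fi22.order_facts.1
  obtain ⟨g, ψ, ⟨t, ht, hψ⟩, rfl⟩ := Fi22Outer.sylow_conj_aut f h2
  refine kinds_conj ?_ g
  rcases hψ with rfl | rfl
  · exact absurd (Subgroup.Normal.conj_mem inferInstance _ (Fi22Outer.mem_conj_inn t) g) hout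
  · refine outer_kind ht ?_
    have ho : orderOf (MulAut.conj t * tau) = 2 := by
      rw [← h2]
      exact (orderOf_injective (MulAut.conj g).toMonoidHom (MulEquiv.injective (MulAut.conj g)) _).symm
    rw [← sq, ← ho, pow_orderOf_eq_one]

end Cfsg.Agent.Fi22OutInv
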