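import Cfsg.Agent.Lib.Fi22OutInv.StabChecks
import Cfsg.Agent.Lib.AutPSU.FourTwo.Main

/-! Kernel checks for the symmetry times a product of two commuting fixed transpositions. -/

set_option autoImplicit false
set_option maxRecDepth 100000
set_option Elab.async false

namespace Cfsg.Agent.Fi22OutInv

open Cfsg.Agent.CosetCert
open Cfsg.Agent.CosetData
open Cfsg.Agent.FischerPresented
open Cfsg.Agent.Fi22Local

/-- The symmetry times the product, on transposition numbers. -/
noncomputable def BP (p : ℕ) : ℕ := sP (tappF pa (tappF pb p))

/-- The spanning pairs as lists. -/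
def oW : List (List ℕ) := oPairs.map fun q => [q.1, q.2]

theorem fixB_checked : (ptsL fixB && (fixB.all fun p => Nat.beq (BP p) p)) = true := by decide +kernel

theorem fixB_cover : allBelow (fun p => !(Nat.beq (BP p) p) || fixB.any fun q => Nat.beq q p) 3510 = true := by
  decide +kernel

theorem twin_checked : ((fixB.any fun q => Nat.beq q pa) && ((fixB.any fun q => Nat.beq q pb) &&
    ((fixB.all fun r => Nat.beq (tappF pb r) r == Nat.beq (tappF pa r) r) &&
      fixB.all fun q => Nat.beq q pa || (Nat.beq q pb ||
        fixB.any fun r => !(Nat.beq (tappF q r) r == Nat.beq (tappF pa r) r))))) = true := by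
  decide +kernel

theorem oW_checked : ((oW.all fun u => ptsL u && u.all fun p => fixB.any fun q => Nat.beq q p) &&
    (Nat.beq oW.length 6 && (oW.all fun u => agree (tl (u ++ u)) fun p => p))) = true := by
  decide +kernel

theorem oW_comm : (oW.all fun u => oW.all fun v => agree (tl (u ++ v)) (tl (v ++ u))) = true := by
  decide +kernel

theorem oW_indep : allBelow (fun a => Nat.beq a 0 || !agree (tl (TwoCert.words oW a)) fun p => p) 64 = true := by
  decide +kernel

theorem oConj_checked : allBelow (fun x => allBelow (fun k =>
    Nat.blt ((oConj.getD x []).getD k 0) 64 &&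
      agree (tl ([e6L.getD x 0] ++ oW.getD k [] ++ [e6L.getD x 0]))
        (tl (TwoCert.words oW ((oConj.getD x []).getD k 0)))) 6) 6 = true := by
  decide +kernel

theorem e6_checked : (allBelow (fun x => fixB.any fun q => Nat.beq q (e6L.getD x 0)) 6 &&
    !Nat.beq (e6L.getD 0 0) (e6L.getD 2 0)) = true := by
  decide +kernel

theorem e6_rel : ∀ i j : Fin 6,
    agree (tl (List.replicate (CoxeterMatrix.E₆.M i j) [e6L.getD i 0, e6L.getD j 0]).flatten) (fun p => p)
      = true := by
  decide +kernel

end Cfsg.Agent.Fi22OutInv
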