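import Cfsg.Agent.Lib.Fi22OutInv.Stab
import Cfsg.Agent.Lib.Fi22OutInv.SixChecks
import Cfsg.Agent.Lib.FischerPresented.WE6Orth
import Cfsg.Agent.Lib.FiniteGroup.FittingPow
import Cfsg.Agent.Lib.LocalEven.Basic
import Cfsg.Prelude.Def_Transfer

/-!
The fixed subgroup of the symmetry times two commuting fixed transpositions is 2^6 by the isometry group.
-/

set_option autoImplicit false
set_option maxRecDepth 100000
set_option linter.style.haveILetI false

namespace Cfsg.Agent.Fi22OutInv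

open Cfsg.Agent.CosetCert
open Cfsg.Agent.CosetData
open Cfsg.Agent.FischerPresented
open Cfsg.Agent.Fi22Local
open Cfsg.Agent.AutPSU.FourTwo (cox)

local notation "AA" => MulAut GG
local notation "Wg" => CoxeterMatrix.E₆.Group

/-- The symmetry times the product of the two transpositions. -/
noncomputable def sB : AA := sigma * MulAut.conj (trN pa * trN pb)

theorem sB_eq : sB = sA * MulAut.conj (trN pb) := by rw [sB, map_mul, ← mul_assoc, sA]

theorem pt_sB : Pt sB BP := by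
  rw [sB_eq]
  exact pt_sA.mul (pt_trN pb_lt)

theorem fixB_spec {p : ℕ} (hp : p ∈ fixB) : p < 3510 ∧ BP p = p := by
  have h := fixB_checked
  simp only [Bool.and_eq_true, ptsL, List.all_eq_true, Nat.blt_eq, Nat.beq_eq] at h
  exact ⟨h.1 p hp, h.2 p hp⟩

theorem fixB_FG {p : ℕ} (hp : p ∈ fixB) : trN p ∈ FG sB :=
  (pt_sB.fix_iff (fixB_spec hp).1).2 (fixB_spec hp).2

theorem mem_fixB {p : ℕ} (hp : p < 3510) (h : sB (trN p) = trN p) : p ∈ fixB := by
  have e := (pt_sB.fix_iff hp).1 h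
  have hc := allBelow_spec fixB_cover hp
  simp only [e, Nat.beq_refl, Bool.not_true, Bool.false_or, List.any_eq_true, Nat.beq_eq] at hc
  obtain ⟨q, hq, rfl⟩ := hc
  exact hq

theorem twin_spec : pa ∈ fixB ∧ pb ∈ fixB ∧
    (∀ r ∈ fixB, Nat.beq (tappF pb r) r = Nat.beq (tappF pa r) r) ∧
    ∀ q ∈ fixB, q = pa ∨ q = pb ∨ ∃ r ∈ fixB, Nat.beq (tappF q r) r ≠ Nat.beq (tappF pa r) r := by
  have h := twin_checked
  simp only [Bool.and_eq_true, List.any_eq_true, List.all_eq_true, Nat.beq_eq, Bool.or_eq_true,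
    beq_iff_eq, Bool.not_eq_true', beq_eq_false_iff_ne] at h
  obtain ⟨⟨q1, hq1, e1⟩, ⟨q2, hq2, e2⟩, h3, h4⟩ := h
  exact ⟨e1 ▸ hq1, e2 ▸ hq2, h3, h4⟩

theorem commute_map (g : GG) {p q : ℕ} (hp : p < 3510) (hq : q < 3510) :
    Nat.beq (tappF (apt g p) (apt g q)) (apt g q) = Nat.beq (tappF p q) q := by
  rw [(tappF_eq (apt_lt g hp) (apt_lt g hq)).1, (tappF_eq hp hq).1, ← apt_tapp g hp hq, Bool.eq_iff_iff,
    Nat.beq_eq, Nat.beq_eq]
  exact ⟨fun h => apt_injective g h, fun h => by rw [h]⟩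

/-- An element fixing the product automorphism and the first point fixes the second. -/
theorem fix_pb {g : GG} (hg : g ∈ FG sB) (ha : apt g pa = pa) : apt g pb = pb := by
  obtain ⟨hpa, hpb, htw, huniq⟩ := twin_spec
  have hlt := apt_lt g pb_lt
  have hq := mem_fixB hlt (FG_moves hg pb_lt ((pt_sB.fix_iff pb_lt).2 (fixB_spec hpb).2))
  rcases huniq _ hq with h | h | ⟨r, hr, hne⟩
  · have := apt_injective g (h.trans ha.symm)
    exact absurd this (by decide)
  · exact h
  · exfalso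
    obtain ⟨hrlt, hrfix⟩ := fixB_spec hr
    have hr' := mem_fixB (apt_lt g⁻¹ hrlt)
      (FG_moves (inv_mem hg) hrlt ((pt_sB.fix_iff hrlt).2 hrfix))
    have hback : apt g (apt g⁻¹ r) = r := by rw [← apt_mul, mul_inv_cancel, apt_one]
    have h1 := commute_map g pb_lt (apt_lt g⁻¹ hrlt)
    have h2 := commute_map g pa_lt (apt_lt g⁻¹ hrlt)
    rw [hback] at h1 h2
    rw [ha] at h2
    exact hne (by rw [h1, h2, htw _ hr'])

/-- The stabiliser of the two points in the fixed subgroup of the symmetry. -/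
noncomputable abbrev Cab : Subgroup GG := Ca ⊓ Subgroup.centralizer ({trN pb} : Set GG)

theorem card_Cab : Nat.card Cab * 63 ≤ 2903040 := by
  classical
  have := Fi22.order_facts.1
  let f : ↥Ca →* Equiv.Perm (Fin 3510) := Out22.hm.comp Ca.subtype
  letI : MulAction ↥Ca (Fin 3510) := MulAction.compHom _ f
  have hsmul : ∀ (g : ↥Ca) (p : Fin 3510), ((g • p : Fin 3510) : ℕ) = apt (g : GG) p := fun g p =>
    (apt_of_lt (g : GG) p.2).symm
  have horb : 63 ≤ Nat.card (MulAction.orbit ↥Ca (⟨pb, pb_lt⟩ : Fin 3510)) := by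
    have hlen : (orbA.map fun x => x.1).length = 63 := by decide +kernel
    have hnd : (orbA.map fun x => x.1).Nodup := by decide +kernel
    have hlt : ∀ q ∈ orbA.map fun x => x.1, q < 3510 := fun q hq => by
      obtain ⟨x, hx, rfl⟩ := List.mem_map.1 hq
      exact (orbA_spec hx).1
    let emb : Fin 63 → MulAction.orbit ↥Ca (⟨pb, pb_lt⟩ : Fin 3510) := fun i =>
      ⟨⟨(orbA.map fun x => x.1)[(i : ℕ)]'(hlen.symm ▸ i.2), hlt _ (List.getElem_mem _)⟩, by
        obtain ⟨x, hx, e⟩ := List.mem_map.1 (List.getElem_mem (l := orbA.map fun x => x.1)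
          (n := (i : ℕ)) (hlen.symm ▸ i.2))
        obtain ⟨g, hg, e'⟩ := pair_reach hx
        exact ⟨⟨g, hg⟩, Fin.ext ((hsmul _ _).trans (e'.trans e))⟩⟩
    have hinj : Function.Injective emb := fun i j h =>
      Fin.ext (hnd.getElem_inj_iff.1 (congrArg (fun z => ((z : MulAction.orbit ↥Ca _) : Fin 3510).val) h))
    simpa using Nat.card_le_card_of_injective emb hinj
  have hst : MulAction.stabilizer ↥Ca (⟨pb, pb_lt⟩ : Fin 3510) = Cab.subgroupOf Ca := by
    ext g
    rw [MulAction.mem_stabilizer_iff, Subgroup.mem_subgroupOf, Subgroup.mem_inf,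
      Subgroup.mem_centralizer_singleton_iff, Fin.ext_iff, hsmul, apt_fix_iff _ pb_lt]
    exact ⟨fun h => ⟨g.2, h.eq⟩, fun h => h.2⟩
  have h := Subgroup.card_mul_index (MulAction.stabilizer ↥Ca (⟨pb, pb_lt⟩ : Fin 3510))
  rw [MulAction.index_stabilizer, ← Nat.card_coe_set_eq, hst,
    Nat.card_congr (Subgroup.subgroupOfEquivOfLe inf_le_left).toEquiv, card_Ca] at h
  have h' : Nat.card ↥Cab * Nat.card (MulAction.orbit ↥Ca (⟨pb, pb_lt⟩ : Fin 3510)) = 2903040 := h
  exact (Nat.mul_le_mul_left _ horb).trans h'.le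

theorem card_FG_sB_le : Nat.card (FG sB) ≤ 3317760 := by
  classical
  have := Fi22.order_facts.1
  let f : ↥(FG sB) →* Equiv.Perm (Fin 3510) := Out22.hm.comp (FG sB).subtype
  letI : MulAction ↥(FG sB) (Fin 3510) := MulAction.compHom _ f
  have hsmul : ∀ (g : ↥(FG sB)) (p : Fin 3510), ((g • p : Fin 3510) : ℕ) = apt (g : GG) p := fun g p =>
    (apt_of_lt (g : GG) p.2).symm
  have horb : Nat.card (MulAction.orbit ↥(FG sB) (⟨pa, pa_lt⟩ : Fin 3510)) ≤ 72 := by
    let emb : MulAction.orbit ↥(FG sB) (⟨pa, pa_lt⟩ : Fin 3510) → {q // q ∈ fixB.toFinset} := fun z =>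
      ⟨((z : Fin 3510) : ℕ), by
        obtain ⟨_, g, rfl⟩ := z
        rw [List.mem_toFinset]
        show ((g • (⟨pa, pa_lt⟩ : Fin 3510) : Fin 3510) : ℕ) ∈ fixB
        rw [hsmul]
        exact mem_fixB (apt_lt _ pa_lt)
          (FG_moves g.2 pa_lt ((pt_sB.fix_iff pa_lt).2 (fixB_spec twin_spec.1).2))⟩
    have hinj : Function.Injective emb := fun i j h =>
      Subtype.ext (Fin.ext (congrArg (fun w : {q // q ∈ fixB.toFinset} => w.1) h))
    refine (Nat.card_le_card_of_injective emb hinj).trans ?_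
    rw [Nat.card_eq_finsetCard]
    exact (List.toFinset_card_le _).trans (by decide)
  have hst : Nat.card (MulAction.stabilizer ↥(FG sB) (⟨pa, pa_lt⟩ : Fin 3510)) ≤ Nat.card Cab := by
    have hmem : ∀ g : ↥(MulAction.stabilizer ↥(FG sB) (⟨pa, pa_lt⟩ : Fin 3510)), ((g : ↥(FG sB)) : GG) ∈ Cab := by
      rintro ⟨⟨g, hg⟩, hs⟩
      have ha : apt g pa = pa := (hsmul _ _).symm.trans (congrArg Fin.val hs)
      have hb := fix_pb hg ha
      have hca := (apt_fix_iff g pa_lt).1 ha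
      have hcb := (apt_fix_iff g pb_lt).1 hb
      refine ⟨mem_Ca.2 ⟨?_, ha⟩, Subgroup.mem_centralizer_singleton_iff.2 hcb.eq⟩
      have h := mem_FG.1 hg
      rw [sB, MulAut.mul_apply, MulAut.conj_apply, ← (hca.mul_right hcb).eq, mul_inv_cancel_right] at h
      exact h
    exact Nat.card_le_card_of_injective (fun g => (⟨_, hmem g⟩ : Cab))
      fun i j h => Subtype.ext (Subtype.ext (congrArg (fun w : Cab => (w : GG)) h))
  have h := Subgroup.card_mul_index (MulAction.stabilizer ↥(FG sB) (⟨pa, pa_lt⟩ : Fin 3510))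
  rw [MulAction.index_stabilizer, ← Nat.card_coe_set_eq] at h
  have h1 := Nat.mul_le_mul hst horb
  rw [h] at h1
  have h2 := card_Cab
  omega

/-! ### The elementary subgroup -/

/-- The spanning elements. -/
noncomputable def oes : List GG := oW.map prodT

theorem oW_spec {u : List ℕ} (hu : u ∈ oW) : ptsL u = true ∧ ∀ p ∈ u, p ∈ fixB := by
  have h := oW_checked
  simp only [Bool.and_eq_true, List.all_eq_true, List.any_eq_true, Nat.beq_eq] at h
  refine ⟨(h.1 u hu).1, fun p hp => ?_⟩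
  obtain ⟨q, hq, rfl⟩ := (h.1 u hu).2 p hp
  exact hq

theorem ptsL_append {u v : List ℕ} (hu : ptsL u = true) (hv : ptsL v = true) : ptsL (u ++ v) = true := by
  simp only [ptsL, List.all_append, Bool.and_eq_true]
  exact ⟨hu, hv⟩

theorem prodT_append (u v : List ℕ) : prodT (u ++ v) = prodT u * prodT v := by
  simp [prodT, List.map_append, List.prod_append]

theorem prodT_agree {u v : List ℕ} (hu : ptsL u = true) (hv : ptsL v = true)
    (h : agree (tl u) (tl v) = true) : prodT u = prodT v :=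
  Fi22Outer.conj_inj (agree_spec (pt_prodT hu) (pt_prodT hv) h)

theorem prodT_eq_one {u : List ℕ} (hu : ptsL u = true) (h : agree (tl u) (fun p => p) = true) :
    prodT u = 1 :=
  Fi22Outer.conj_inj ((agree_spec (pt_prodT hu) Pt.one h).trans (map_one _).symm)

theorem ptsL_words : ∀ {W : List (List ℕ)}, (∀ u ∈ W, ptsL u = true) → ∀ a,
    ptsL (TwoCert.words W a) = true ∧ prodT (TwoCert.words W a) = TwoCert.val (W.map prodT) a
  | [], _, a => ⟨rfl, rfl⟩
  | u :: W, h, a => by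
    obtain ⟨h1, h2⟩ := ptsL_words (W := W) (fun v hv => h v (List.mem_cons_of_mem _ hv)) (a / 2)
    have hu := h u (List.mem_cons_self ..)
    simp only [TwoCert.words, List.map_cons, TwoCert.val]
    rw [← h2]
    split
    · exact ⟨ptsL_append hu h1, prodT_append _ _⟩
    · simpa using h1

theorem oes_sq : ∀ e ∈ oes, e * e = 1 := by
  intro e he
  obtain ⟨u, hu, rfl⟩ := List.mem_map.1 he
  have h := oW_checked
  simp only [Bool.and_eq_true, List.all_eq_true] at h
  rw [← prodT_append]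
  exact prodT_eq_one (ptsL_append (oW_spec hu).1 (oW_spec hu).1) (h.2.2 u hu)

theorem oes_comm : ∀ e ∈ oes, ∀ e' ∈ oes, e * e' = e' * e := by
  intro e he e' he'
  obtain ⟨u, hu, rfl⟩ := List.mem_map.1 he
  obtain ⟨v, hv, rfl⟩ := List.mem_map.1 he'
  rw [← prodT_append, ← prodT_append]
  exact prodT_agree (ptsL_append (oW_spec hu).1 (oW_spec hv).1) (ptsL_append (oW_spec hv).1 (oW_spec hu).1)
    (List.all_eq_true.1 (List.all_eq_true.1 oW_comm u hu) v hv)

/-- The element of a code. -/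
noncomputable def ov (a : ℕ) : GG := TwoCert.val oes a

theorem ov_xor (a b : ℕ) : ov (a ^^^ b) = ov a * ov b := TwoCert.val_xor oes_sq oes_comm a b

theorem ov_zero : ov 0 = 1 := TwoCert.val_zero _

theorem ov_sq (a : ℕ) : ov a * ov a = 1 := by rw [← ov_xor, Nat.xor_self, ov_zero]

/-- The elementary subgroup. -/
noncomputable def OO : Subgroup GG where
  carrier := {g | ∃ a < 64, g = ov a}
  mul_mem' := by
    rintro _ _ ⟨a, ha, rfl⟩ ⟨b, hb, rfl⟩
    exact ⟨a ^^^ b, Nat.xor_lt_two_pow (n := 6) ha hb, (ov_xor a b).symm⟩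
  one_mem' := ⟨0, by norm_num, ov_zero.symm⟩
  inv_mem' := by
    rintro _ ⟨a, ha, rfl⟩
    exact ⟨a, ha, inv_eq_of_mul_eq_one_right (ov_sq a)⟩

theorem ov_inj {a b : ℕ} (ha : a < 64) (hb : b < 64) (h : ov a = ov b) : a = b := by
  by_contra hne
  have hx : a ^^^ b ≠ 0 := fun e => hne (by simpa using e)
  have hlt : a ^^^ b < 64 := Nat.xor_lt_two_pow (n := 6) ha hb
  have h1 : ov (a ^^^ b) = 1 := by rw [ov_xor, h, ov_sq]
  have hc := allBelow_spec oW_indep hlt
  simp only [Bool.or_eq_true, Nat.beq_eq, Bool.not_eq_true', hx, false_or] at hc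
  obtain ⟨hp, he⟩ := ptsL_words (fun u hu => (oW_spec hu).1) (a ^^^ b)
  rw [← Bool.not_eq_true] at hc
  refine hc (Out22.allBelow_intro fun x hx' => ?_)
  obtain ⟨hlt', -⟩ := gen_eq hx'
  rw [Nat.beq_eq, ← (tl_spec hp hlt').1, he]
  show apt (ov (a ^^^ b)) _ = _
  rw [h1, apt_one]

theorem card_OO : Nat.card OO = 64 := by
  let e : Fin 64 → OO := fun a => ⟨ov a, a, a.2, rfl⟩
  have he : Function.Bijective e := ⟨fun a b h => Fin.ext (ov_inj a.2 b.2 (congrArg Subtype.val h)),
    fun ⟨g, a, ha, hg⟩ => ⟨⟨a, ha⟩, Subtype.ext hg.symm⟩⟩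
  rw [← Nat.card_congr (Equiv.ofBijective e he), Nat.card_fin]

theorem OO_elementary : Cfsg.IsElementaryAbelian 2 OO := by
  refine ⟨⟨⟨?_⟩⟩, ?_⟩
  · rintro ⟨_, a, ha, rfl⟩ ⟨_, b, hb, rfl⟩
    exact Subtype.ext (show ov a * ov b = ov b * ov a by rw [← ov_xor, ← ov_xor, Nat.xor_comm])
  · rintro _ ⟨a, ha, rfl⟩
    rw [pow_two, ov_sq]

theorem val_mem {S : Subgroup GG} : ∀ {l : List GG}, (∀ e ∈ l, e ∈ S) → ∀ a, TwoCert.val l a ∈ S
  | [], _, _ => S.one_mem
  | e :: l, h, a => by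
    simp only [TwoCert.val]
    refine S.mul_mem ?_ (val_mem (fun x hx => h x (List.mem_cons_of_mem _ hx)) _)
    split
    · exact h e (List.mem_cons_self ..)
    · exact S.one_mem

theorem prodT_mem {S : Subgroup GG} {l : List ℕ} (h : ∀ p ∈ l, trN p ∈ S) : prodT l ∈ S :=
  S.list_prod_mem fun x hx => by
    obtain ⟨p, hp, rfl⟩ := List.mem_map.1 hx
    exact h p hp

theorem OO_le : OO ≤ FG sB := by
  rintro _ ⟨a, -, rfl⟩
  refine val_mem (fun e he => ?_) a
  obtain ⟨u, hu, rfl⟩ := List.mem_map.1 he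
  exact prodT_mem fun p hp => fixB_FG ((oW_spec hu).2 p hp)

theorem e6_facts (i : Fin 6) : e6L.getD i 0 ∈ fixB := by
  have h := e6_checked
  simp only [Bool.and_eq_true] at h
  have h' := allBelow_spec h.1 i.2
  simp only [List.any_eq_true, Nat.beq_eq] at h'
  obtain ⟨q, hq, e⟩ := h'
  exact e ▸ hq

theorem e6_normalizes (i : Fin 6) : trN (e6L.getD i 0) ∈ Subgroup.normalizer ((OO : Subgroup GG) : Set GG) := by
  have := Fi22.order_facts.1
  have hlt := (fixB_spec (e6_facts i)).1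
  have hle : OO.map (MulAut.conj (trN (e6L.getD i 0))).toMonoidHom ≤ OO := by
    rintro _ ⟨_, ⟨a, -, rfl⟩, rfl⟩
    refine val_mem (S := OO.comap (MulAut.conj (trN (e6L.getD i 0))).toMonoidHom) (fun e he => ?_) a
    obtain ⟨u, hu, rfl⟩ := List.mem_map.1 he
    obtain ⟨k, hk, rfl⟩ := List.getElem_of_mem hu
    have hlen : oW.length = 6 := rfl
    have h := allBelow_spec (allBelow_spec oConj_checked i.2) (hlen ▸ hk)
    simp only [Bool.and_eq_true, Nat.blt_eq, List.getD_eq_getElem _ _ hk] at h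
    obtain ⟨hc, hag⟩ := h
    have hp1 : ptsL [e6L.getD i 0] = true := by
      simp only [ptsL, List.all_cons, List.all_nil, Bool.and_true, Nat.blt_eq]
      exact hlt
    obtain ⟨hp2, he2⟩ := ptsL_words (fun u hu => (oW_spec hu).1) ((oConj.getD i []).getD k 0)
    have he3 := prodT_agree (ptsL_append (ptsL_append hp1 (oW_spec hu).1) hp1) hp2 hag
    rw [prodT_append, prodT_append, he2, show prodT [e6L.getD i 0] = trN (e6L.getD i 0) from mul_one _] at he3
    refine ⟨_, hc, ?_⟩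
    show trN (e6L.getD i 0) * prodT oW[k] * (trN (e6L.getD i 0))⁻¹ = _
    rw [inv_eq_of_mul_eq_one_right (trN_sq' hlt)]
    exact he3
  exact Subgroup.mem_normalizer_iff_map_conj_eq.2 (Subgroup.eq_of_le_of_card_ge hle
    (le_of_eq (Subgroup.card_map_of_injective (MulAut.conj _).injective).symm))

/-- The part of the fixed subgroup normalising the elementary subgroup. -/
noncomputable abbrev NB : Subgroup GG := FG sB ⊓ Subgroup.normalizer ((OO : Subgroup GG) : Set GG)

theorem OO_le_NB : OO ≤ NB := le_inf OO_le Subgroup.le_normalizer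

instance normal_OO_NB : (OO.subgroupOf NB).Normal :=
  Subgroup.normal_subgroupOf_iff_le_normalizer OO_le_NB |>.2 inf_le_right

/-- The reflections. -/
noncomputable def rB (i : Fin 6) : NB := ⟨trN (e6L.getD i 0), fixB_FG (e6_facts i), e6_normalizes i⟩

theorem liftable : CoxeterMatrix.E₆.IsLiftable rB := by
  intro i j
  have key : ∀ n : ℕ, ptsL (List.replicate n [e6L.getD i 0, e6L.getD j 0]).flatten = true ∧
      prodT (List.replicate n [e6L.getD i 0, e6L.getD j 0]).flatten =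
        (trN (e6L.getD i 0) * trN (e6L.getD j 0)) ^ n := by
    intro n
    induction n with
    | zero => exact ⟨rfl, by simp [prodT]⟩
    | succ n ih =>
      rw [List.replicate_succ, List.flatten_cons, prodT_append, ih.2, pow_succ']
      refine ⟨ptsL_append ?_ ih.1, by simp [prodT]⟩
      simp only [ptsL, List.all_cons, List.all_nil, Bool.and_true, Bool.and_eq_true, Nat.blt_eq]
      exact ⟨(fixB_spec (e6_facts i)).1, (fixB_spec (e6_facts j)).1⟩
  refine Subtype.ext ?_
  rw [SubmonoidClass.coe_pow]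
  show (trN (e6L.getD i 0) * trN (e6L.getD j 0)) ^ _ = 1
  rw [← (key _).2]
  exact prodT_eq_one (key _).1 (e6_rel i j)

/-- The map from the Coxeter group to the quotient. -/
noncomputable def psiB : Wg →* NB ⧸ OO.subgroupOf NB :=
  (QuotientGroup.mk' (OO.subgroupOf NB)).comp (cox.lift ⟨rB, liftable⟩)

theorem psiB_inj : Function.Injective psiB := by
  have := Fi22.order_facts.1
  rw [← MonoidHom.ker_eq_bot_iff]
  by_contra hne
  obtain ⟨F, hFF, hFt, hF⟩ := WE6Orth.exists_F4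
  have h := (AutPSU.FourTwo.normal_dichotomy hF psiB.ker hne).1 [0, 2] rfl
  rw [MonoidHom.mem_ker, CoxeterSystem.wordProd_cons, CoxeterSystem.wordProd_singleton, psiB,
    MonoidHom.comp_apply, map_mul, CoxeterSystem.lift_apply_simple, CoxeterSystem.lift_apply_simple,
    QuotientGroup.mk'_apply, QuotientGroup.eq_one_iff, Subgroup.mem_subgroupOf] at h
  obtain ⟨a, -, ha⟩ := h
  have h3 : (trN (e6L.getD 0 0) * trN (e6L.getD 2 0)) ^ 3 = 1 := by
    have e := liftable 0 2
    rw [show CoxeterMatrix.E₆.M 0 2 = 3 by decide] at e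
    exact congrArg Subtype.val e
  have h2 : (trN (e6L.getD 0 0) * trN (e6L.getD 2 0)) ^ 2 = 1 := by
    rw [pow_two]
    exact (congrArg (fun x => x * x) (show trN (e6L.getD 0 0) * trN (e6L.getD 2 0) = ov a from ha)).trans (ov_sq a)
  rw [pow_succ, h2, one_mul] at h3
  have hl0 := (fixB_spec (e6_facts 0)).1
  have hl2 := (fixB_spec (e6_facts 2)).1
  have he : trN (e6L.getD 0 0) = trN (e6L.getD 2 0) :=
    (mul_eq_one_iff_eq_inv.1 h3).trans (inv_eq_of_mul_eq_one_right (trN_sq' hl2))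
  have h02 := e6_checked
  simp only [Bool.and_eq_true, Bool.not_eq_true'] at h02
  exact Nat.ne_of_beq_eq_false h02.2 (trN_inj hl0 hl2 he)

theorem card_facts : NB = FG sB ∧ Function.Bijective psiB := by
  have := Fi22.order_facts.1
  haveI : Finite Wg := Nat.finite_of_card_ne_zero (by rw [AutPSU.FourTwo.card_W]; norm_num)
  have h1 := Nat.card_le_card_of_injective psiB psiB_inj
  rw [AutPSU.FourTwo.card_W] at h1
  have h2 := Subgroup.card_eq_card_quotient_mul_card_subgroup (OO.subgroupOf NB)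
  rw [Nat.card_congr (Subgroup.subgroupOfEquivOfLe OO_le_NB).toEquiv, card_OO] at h2
  have h3 : Nat.card NB ≤ Nat.card (FG sB) := Subgroup.card_le_of_le inf_le_left
  have h4 := card_FG_sB_le
  have h5 : Nat.card (NB ⧸ OO.subgroupOf NB) = 51840 := by
    have h2' : Nat.card ↥NB = Nat.card (NB ⧸ OO.subgroupOf NB) * 64 := h2
    omega
  refine ⟨Subgroup.eq_of_le_of_card_ge inf_le_left ?_, (Nat.bijective_iff_injective_and_card psiB).2
    ⟨psiB_inj, by rw [AutPSU.FourTwo.card_W, h5]⟩⟩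
  have h2' : Nat.card ↥NB = Nat.card (NB ⧸ OO.subgroupOf NB) * 64 := h2
  show Nat.card ↥(FG sB) ≤ Nat.card ↥NB
  omega

theorem card_FG_sB : Nat.card (FG sB) = 3317760 := by
  have := Fi22.order_facts.1
  obtain ⟨hN, hb⟩ := card_facts
  haveI : Finite Wg := Nat.finite_of_card_ne_zero (by rw [AutPSU.FourTwo.card_W]; norm_num)
  have h2 : Nat.card ↥NB = Nat.card (NB ⧸ OO.subgroupOf NB) * Nat.card (OO.subgroupOf NB) :=
    Subgroup.card_eq_card_quotient_mul_card_subgroup (OO.subgroupOf NB)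
  rw [← hN, h2, Nat.card_congr (Subgroup.subgroupOfEquivOfLe OO_le_NB).toEquiv, card_OO,
    ← Nat.card_congr (Equiv.ofBijective psiB hb), AutPSU.FourTwo.card_W]

theorem six_structure : ∃ O : Subgroup GG, O = (Cfsg.pCore 2 ↥(FG sB)).map (FG sB).subtype ∧
    Cfsg.IsElementaryAbelian 2 O ∧ Nat.card O = 64 ∧ ∃ _ : (O.subgroupOf (FG sB)).Normal,
      Nonempty (↥(FG sB) ⧸ O.subgroupOf (FG sB) ≃*
        Cfsg.isometryGroup (ZMod 2) (Cfsg.quadFormMinus 2 (ZMod 2) 1 1)) := by
  have := Fi22.order_facts.1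
  haveI : Fact (Nat.Prime 2) := ⟨Nat.prime_two⟩
  obtain ⟨hN, hb⟩ := card_facts
  haveI hnorm : (OO.subgroupOf (FG sB)).Normal :=
    Subgroup.normal_subgroupOf_iff_le_normalizer OO_le |>.2 (hN ▸ inf_le_right)
  let c : NB ⧸ OO.subgroupOf NB ≃* FG sB ⧸ OO.subgroupOf (FG sB) :=
    QuotientGroup.congr _ _ (MulEquiv.subgroupCongr hN) (by
      ext x
      constructor
      · rintro ⟨y, hy, rfl⟩; exact hy
      · intro hx
        exact ⟨(MulEquiv.subgroupCongr hN).symm x, hx, MulEquiv.apply_symm_apply _ _⟩)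
  let Ψ : Wg ≃* FG sB ⧸ OO.subgroupOf (FG sB) := (MulEquiv.ofBijective psiB hb).trans c
  have hO : IsPGroup 2 (OO.subgroupOf (FG sB)) := IsPGroup.of_card (n := 6) (by
    rw [Nat.card_congr (Subgroup.subgroupOfEquivOfLe OO_le).toEquiv, card_OO]; norm_num)
  have hcore : Cfsg.pCore 2 ↥(FG sB) = OO.subgroupOf (FG sB) := by
    refine le_antisymm ?_ (le_sSup ⟨hnorm, hO⟩)
    haveI := FiniteGroup.pCore_normal (G := ↥(FG sB)) 2
    set f : ↥(FG sB) →* Wg := Ψ.symm.toMonoidHom.comp (QuotientGroup.mk' (OO.subgroupOf (FG sB))) with hf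
    have hfs : Function.Surjective f := Ψ.symm.surjective.comp (QuotientGroup.mk'_surjective _)
    haveI : ((Cfsg.pCore 2 ↥(FG sB)).map f).Normal := Subgroup.Normal.map inferInstance f hfs
    intro x hx
    by_contra hxO
    have hne : (Cfsg.pCore 2 ↥(FG sB)).map f ≠ ⊥ := fun h => by
      have : f x ∈ (Cfsg.pCore 2 ↥(FG sB)).map f := ⟨x, hx, rfl⟩
      rw [h, Subgroup.mem_bot] at this
      exact hxO ((QuotientGroup.eq_one_iff x).1 (Ψ.symm.injective (this.trans (map_one _).symm)))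
    obtain ⟨F, hFF, hFt, hF⟩ := WE6Orth.exists_F4
    haveI : Finite Wg := Finite.of_equiv _ Ψ.symm.toEquiv
    exact (AutPSU.FourTwo.normal_dichotomy hF _ hne).2
      ((FiniteGroup.pCore_isPGroup (G := ↥(FG sB)) 2).map f).isNilpotent
  obtain ⟨e⟩ := WE6Orth.nonempty_equiv
  refine ⟨OO, ?_, OO_elementary, card_OO, hnorm, ⟨Ψ.symm.trans e⟩⟩
  rw [hcore, Subgroup.map_subgroupOf_eq_of_le OO_le]

end Cfsg.Agent.Fi22OutInv
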