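import Cfsg.Agent.Lib.Fi22OutInv.StabChecks
import Cfsg.Prelude.Def_ClassicalGeometry

/-! Kernel checks for the neighbours of the first fixed point as points of a symplectic space. -/

set_option autoImplicit false
set_option maxRecDepth 100000
set_option Elab.async false

namespace Cfsg.Agent.Fi22OutInv

open Cfsg.Agent.CosetCert
open Cfsg.Agent.CosetData
open Cfsg.Agent.Fi22Local

/-- The space. -/
abbrev V6 := Fin 3 ⊕ Fin 3 → ZMod 2

/-- Bit positions. -/
def pos6 : Fin 3 ⊕ Fin 3 → ℕ
  | .inl i => i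
  | .inr i => 3 + i

/-- A coded vector. -/
def vecN (c : ℕ) : V6 := fun k => if c.testBit (pos6 k) then 1 else 0

/-- The point of an index. -/
abbrev pA (i : Fin 63) : ℕ := orbPt orbA i

/-- The vector of an index. -/
def vA (i : Fin 63) : V6 := vecN (vecA.getD i 0)

/-- The code of a point. -/
noncomputable def cA (p : ℕ) : ℕ :=
  List.rec 0 (fun x _ r => bif Nat.beq x.1 p then x.2 else r) ((orbA.map fun x => x.1).zip vecA)

/-- The form on codes. -/
noncomputable def bN (c d : ℕ) : Bool :=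
  Nat.beq (Nat.mod (Nat.add (Nat.add
    (Nat.add (Nat.mul (c % 2) (d / 8 % 2)) (Nat.mul (c / 8 % 2) (d % 2)))
    (Nat.add (Nat.mul (c / 2 % 2) (d / 16 % 2)) (Nat.mul (c / 16 % 2) (d / 2 % 2))))
    (Nat.add (Nat.mul (c / 4 % 2) (d / 32 % 2)) (Nat.mul (c / 32 % 2) (d / 4 % 2)))) 2) 1

theorem orbA_len : orbA.length = 63 ∧ (vecA.all fun c => Nat.blt c 64) = true := by decide +kernel

theorem orbA_nodup : (orbA.map fun x => x.1).Nodup := by decide +kernel

theorem cA_checked : allBelow (fun i => Nat.beq (cA (orbPt orbA i)) (vecA.getD i 0)) 63 = true := by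
  decide +kernel

theorem act_checked : allBelow (fun i => allBelow (fun j =>
    Nat.beq (cA (tappF (orbPt orbA j) (orbPt orbA i)))
      (Nat.xor (vecA.getD i 0) (bif bN (vecA.getD i 0) (vecA.getD j 0) then vecA.getD j 0 else 0))) 63) 63
      = true := by
  decide +kernel

theorem vA_ne : ∀ i : Fin 63, vA i ≠ 0 := by decide +kernel

theorem vA_inj : ∀ i j : Fin 63, vA i = vA j → i = j := by decide +kernel

theorem vA_surj : ∀ v : V6, v ≠ 0 → ∃ i, vA i = v := by decide +kernel

theorem vA_step : ∀ i j : Fin 63,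
    vecN (Nat.xor (vecA.getD i 0) (bif bN (vecA.getD i 0) (vecA.getD j 0) then vecA.getD j 0 else 0)) =
      vA i + (Cfsg.sympForm 3 (ZMod 2) (vA i) (vA j)) • vA j := by
  decide +kernel

end Cfsg.Agent.Fi22OutInv
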