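import Cfsg.Agent.Lib.Fi22OutInv.Stab
import Cfsg.Agent.Lib.Fi22OutInv.SympChecks
import Cfsg.Agent.Lib.Classical.Symplectic
import Cfsg.Agent.Lib.AutPSp.Basic
import Cfsg.Prelude.Def_Classical

/-!
The stabiliser of the first fixed point is a group of order two times the symplectic group in dimension six.
-/

set_option autoImplicit false
set_option maxRecDepth 100000
set_option linter.style.haveILetI false

namespace Cfsg.Agent.Fi22OutInv

open Cfsg.Agent.CosetCert
open Cfsg.Agent.CosetData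
open Cfsg.Agent.FischerPresented
open Cfsg.Agent.Fi22Local
open Matrix

local notation "Sp6" => Matrix.symplecticGroup (Fin 3) (ZMod 2)

theorem pA_mem (i : Fin 63) : ∃ x ∈ orbA, x.1 = pA i := by
  have hi : (i : ℕ) < orbA.length := orbA_len.1.symm ▸ i.2
  exact ⟨_, List.getElem_mem hi, by rw [pA, orbPt, List.getD_eq_getElem _ _ hi]⟩

theorem pA_facts (i : Fin 63) : pA i < 3510 ∧ sA (trN (pA i)) = trN (pA i) ∧ pA i ≠ pa := by
  obtain ⟨x, hx, e⟩ := pA_mem i
  rw [← e]
  exact ⟨(orbA_spec hx).1, sA_orbA hx, (orbA_spec hx).2.2.2.1⟩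

theorem pA_inj {i j : Fin 63} (h : pA i = pA j) : i = j := by
  have hi : (i : ℕ) < (orbA.map fun x => x.1).length := by rw [List.length_map, orbA_len.1]; exact i.2
  have hj : (j : ℕ) < (orbA.map fun x => x.1).length := by rw [List.length_map, orbA_len.1]; exact j.2
  refine Fin.ext (orbA_nodup.getElem_inj_iff.1 (show (orbA.map fun x => x.1)[(i : ℕ)]'hi =
    (orbA.map fun x => x.1)[(j : ℕ)]'hj from ?_))
  rw [List.getElem_map, List.getElem_map]
  rwa [pA, pA, orbPt, orbPt, List.getD_eq_getElem _ _ (show (i : ℕ) < orbA.length from orbA_len.1.symm ▸ i.2),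
    List.getD_eq_getElem _ _ (show (j : ℕ) < orbA.length from orbA_len.1.symm ▸ j.2)] at h

theorem Ca_stable {g : GG} (hg : g ∈ Ca) (i : Fin 63) : ∃ k : Fin 63, apt g (pA i) = pA k := by
  obtain ⟨hlt, hfix, hne⟩ := pA_facts i
  obtain ⟨-, -, h⟩ := fix_sA (apt_lt g hlt) (FG_moves (FG_sA.symm ▸ hg) hlt hfix)
  rcases h with h | ⟨x, hx, e⟩
  · exact absurd (apt_injective g (h.trans (mem_Ca.1 hg).2.symm)) hne
  · obtain ⟨n, hn, rfl⟩ := List.getElem_of_mem hx
    refine ⟨⟨n, orbA_len.1 ▸ hn⟩, ?_⟩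
    rw [← e, pA, orbPt, List.getD_eq_getElem _ _ hn]

/-- The image of a neighbour. -/
noncomputable def mvA (g : Ca) (i : Fin 63) : Fin 63 := (Ca_stable g.2 i).choose

theorem pA_mvA (g : Ca) (i : Fin 63) : pA (mvA g i) = apt g (pA i) := (Ca_stable g.2 i).choose_spec.symm

theorem mvA_mul (g h : Ca) (i : Fin 63) : mvA (g * h) i = mvA g (mvA h i) :=
  pA_inj (by rw [pA_mvA, pA_mvA, pA_mvA, Subgroup.coe_mul, apt_mul])

theorem mvA_one (i : Fin 63) : mvA 1 i = i := pA_inj (by rw [pA_mvA, Subgroup.coe_one, apt_one])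

/-- The action on the neighbours. -/
noncomputable def piA : ↥Ca →* Equiv.Perm (Fin 63) where
  toFun g := ⟨mvA g, mvA g⁻¹, fun b => by rw [← mvA_mul, inv_mul_cancel, mvA_one],
    fun b => by rw [← mvA_mul, mul_inv_cancel, mvA_one]⟩
  map_one' := Equiv.ext mvA_one
  map_mul' g h := Equiv.ext (mvA_mul g h)

theorem sp_ne {A : Sp6} {v : V6} (h : v ≠ 0) : A.1 *ᵥ v ≠ 0 := fun e =>
  h (by
    have e' : (A⁻¹ : Sp6).1 *ᵥ (A.1 *ᵥ v) = (A⁻¹ : Sp6).1 *ᵥ 0 := congrArg (fun w => (A⁻¹ : Sp6).1 *ᵥ w) e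
    rwa [mulVec_mulVec, ← Submonoid.coe_mul, inv_mul_cancel, Submonoid.coe_one, one_mulVec, mulVec_zero] at e')

theorem exists_mv6 (A : Sp6) (i : Fin 63) : ∃ k, vA k = A.1 *ᵥ vA i := vA_surj _ (sp_ne (vA_ne i))

/-- The image of a vector. -/
noncomputable def mv6 (A : Sp6) (i : Fin 63) : Fin 63 := (exists_mv6 A i).choose

theorem vA_mv6 (A : Sp6) (i : Fin 63) : vA (mv6 A i) = A.1 *ᵥ vA i := (exists_mv6 A i).choose_spec

theorem mv6_mul (A B : Sp6) (i : Fin 63) : mv6 (A * B) i = mv6 A (mv6 B i) :=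
  vA_inj _ _ (by rw [vA_mv6, vA_mv6, vA_mv6, mulVec_mulVec, Submonoid.coe_mul])

theorem mv6_one (i : Fin 63) : mv6 1 i = i :=
  vA_inj _ _ (by rw [vA_mv6, Submonoid.coe_one, one_mulVec])

/-- The permutation representation of the symplectic group. -/
noncomputable def rho6 : Sp6 →* Equiv.Perm (Fin 63) where
  toFun g := ⟨mv6 g, mv6 g⁻¹, fun b => by rw [← mv6_mul, inv_mul_cancel, mv6_one],
    fun b => by rw [← mv6_mul, mul_inv_cancel, mv6_one]⟩
  map_one' := Equiv.ext mv6_one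
  map_mul' g h := Equiv.ext (mv6_mul g h)

theorem rho6_inj : Function.Injective rho6 := by
  refine (injective_iff_map_eq_one rho6).2 fun A hA => Subtype.ext ?_
  refine Matrix.ext_of_mulVec_single fun k => ?_
  have hk : (Pi.single k 1 : V6) ≠ 0 := fun e => by
    have := congrFun e k
    simp at this
  obtain ⟨i, hi⟩ := vA_surj _ hk
  show A.1 *ᵥ _ = (1 : Matrix _ _ (ZMod 2)) *ᵥ _
  rw [← hi, ← vA_mv6, one_mulVec]
  exact congrArg vA (DFunLike.congr_fun hA i)

theorem cA_pA (i : Fin 63) : cA (pA i) = vecA.getD i 0 := Nat.eq_of_beq_eq_true (allBelow_spec cA_checked i.2)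

theorem trN_mem_Ca (j : Fin 63) : trN (pA j) ∈ Ca := by
  obtain ⟨x, hx, e⟩ := pA_mem j
  obtain ⟨hlt, hs, hc, -⟩ := orbA_spec hx
  rw [← e]
  refine mem_Ca.2 ⟨(pt_sigma.fix_iff hlt).2 hs, ?_⟩
  rw [apt_fix_iff _ pa_lt]
  exact ((apt_fix_iff (trN pa) hlt).1 (by rw [apt_trN pa_lt hlt, ← (tappF_eq pa_lt hlt).1, hc])).symm

theorem transvection_mem (A : Sp6) (w : V6) (c : ZMod 2)
    (hA : (A : Matrix (Fin 3 ⊕ Fin 3) (Fin 3 ⊕ Fin 3) (ZMod 2)) = Cfsg.sympTransvection 3 w c) :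
    rho6 A ∈ piA.range := by
  have hact : ∀ x : V6, A.1 *ᵥ x = x + (c * Cfsg.sympForm 3 (ZMod 2) x w) • w := fun x => by
    rw [hA]; exact ClassicalSp.sympTransvection_mulVec w c x
  by_cases htriv : w = 0 ∨ c = 0
  · refine ⟨1, ?_⟩
    rw [map_one]
    refine (Equiv.ext fun i => vA_inj _ _ ?_).symm
    show vA (mv6 A i) = vA i
    rw [vA_mv6, hact]
    rcases htriv with h | h <;> simp [h]
  push Not at htriv
  obtain ⟨j, rfl⟩ := vA_surj w htriv.1
  obtain rfl : c = 1 := (by decide : ∀ c : ZMod 2, c ≠ 0 → c = 1) c htriv.2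
  refine ⟨⟨trN (pA j), trN_mem_Ca j⟩, Equiv.ext fun i => vA_inj _ _ ?_⟩
  show vA (mvA _ i) = vA (mv6 A i)
  rw [vA_mv6, hact, one_mul]
  have h := Nat.eq_of_beq_eq_true (allBelow_spec (allBelow_spec act_checked i.2) j.2)
  rw [← vA_step, vA, ← cA_pA (mvA _ i), pA_mvA, apt_trN (pA_facts j).1 (pA_facts i).1,
    ← (tappF_eq (pA_facts j).1 (pA_facts i).1).1]
  exact congrArg vecN h

theorem range_le : rho6.range ≤ piA.range := by
  rw [MonoidHom.range_eq_map, ← ClassicalSp.closure_transvections, MonoidHom.map_closure, Subgroup.closure_le]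
  rintro _ ⟨A, ⟨w, c, hA⟩, rfl⟩
  exact transvection_mem A w c hA

theorem card_Sp6 : Nat.card Sp6 = 1451520 := by
  rw [ClassicalSp.card_sp, Nat.card_zmod]
  decide

/-- The first transposition, in the stabiliser. -/
noncomputable def aA : Ca := ⟨trN pa, mem_Ca.2 ⟨(pt_sigma.fix_iff pa_lt).2 sP_pa,
  (apt_fix_iff _ pa_lt).2 (Commute.refl _)⟩⟩

theorem aA_ker : aA ∈ piA.ker := by
  refine MonoidHom.mem_ker.2 (Equiv.ext fun i => pA_inj ?_)
  show pA (mvA aA i) = pA i
  obtain ⟨x, hx, e⟩ := pA_mem i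
  rw [pA_mvA, ← e]
  show apt (trN pa) x.1 = x.1
  rw [apt_trN pa_lt (orbA_spec hx).1, ← (tappF_eq pa_lt (orbA_spec hx).1).1, (orbA_spec hx).2.2.1]

/-- The sign of the permutation of the three classes. -/
noncomputable def chi : ↥Ca →* ℤˣ :=
  ((Equiv.Perm.sign.comp Eight.psi).comp
    (Eight.II.equivMapOfInjective (MulAut.conj uG).toMonoidHom (MulAut.conj uG).injective).symm.toMonoidHom).comp
    (Subgroup.inclusion (show Ca ≤ IIs from inf_le_left.trans Cs_eq.le))

theorem trN_pa : trN pa = uG * trN Eight.g0 * uG⁻¹ := by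
  obtain ⟨hu, -, -, hk⟩ := uL_facts
  obtain ⟨h1, -, -⟩ := hk 1 (by norm_num)
  have hlt : Eight.g0 < 3510 := Eight.g8_lt Eight.g0_mem
  rw [← trN_apt _ hlt, uG, (tl_spec hu hlt).1]
  congr 1

theorem chi_aA : chi aA = -1 := by
  have hm : trN Eight.g0 ∈ Eight.II := Eight.gen_mem (List.mem_cons_of_mem _ Eight.g0_mem)
  show Equiv.Perm.sign (Eight.psi _) = -1
  refine Eq.trans (congrArg (fun y => Equiv.Perm.sign (Eight.psi y))
    (show _ = (⟨trN Eight.g0, hm⟩ : ↥Eight.II) from (MulEquiv.symm_apply_eq _).2 (Subtype.ext ?_))) ?_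
  · exact trN_pa
  · show Equiv.Perm.sign (Eight.psi ⟨trN Eight.g0, hm⟩) = -1
    rw [Eight.psi_eq (g := ⟨trN Eight.g0, hm⟩) (Eight.moves_gen (List.mem_cons_of_mem _ Eight.g0_mem))]
    decide

theorem aA_ne : aA ≠ 1 := fun h => by
  have := congrArg chi h
  rw [chi_aA, map_one] at this
  exact absurd this (by decide)

theorem piA_facts : piA.range = rho6.range ∧ Nat.card piA.ker = 2 := by
  classical
  have := Fi22.order_facts.1
  have h := Subgroup.card_eq_card_quotient_mul_card_subgroup piA.ker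
  rw [Nat.card_congr (QuotientGroup.quotientKerEquivRange piA).toEquiv] at h
  have hr : Nat.card rho6.range = 1451520 := by
    rw [← Nat.card_congr (MonoidHom.ofInjective rho6_inj).toEquiv, card_Sp6]
  have hle := Subgroup.card_le_of_le range_le
  rw [hr] at hle
  have h2 : 2 ≤ Nat.card piA.ker := by
    by_contra hlt
    have h1 : Nat.card piA.ker = 1 := by
      have := Nat.card_pos (α := piA.ker)
      omega
    rw [Subgroup.card_eq_one] at h1
    exact aA_ne (Subgroup.mem_bot.1 (h1 ▸ aA_ker))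
  have h' : 2903040 = Nat.card piA.range * Nat.card piA.ker := card_Ca.symm.trans h
  have he : Nat.card piA.range = 1451520 := by
    have := Nat.mul_le_mul_left (Nat.card piA.range) h2
    omega
  refine ⟨(Subgroup.eq_of_le_of_card_ge range_le (by rw [he, hr])).symm, ?_⟩
  rw [he] at h'
  omega

theorem center_Sp6 : Subgroup.center Sp6 = ⊥ := by
  rw [eq_bot_iff]
  intro s hs
  obtain ⟨c, hc⟩ := (AutPSp.mem_center_iff s).1 hs
  rw [Subgroup.mem_bot]
  refine AutPSp.ext_act fun x => ?_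
  rw [AutPSp.act_one, hc]
  rcases (by decide : ∀ c : ZMod 2, c = 0 ∨ c = 1) c with rfl | rfl
  · exfalso
    have h := hc (Pi.single (Sum.inl 0) 1)
    rw [zero_smul] at h
    exact AutPSp.act_ne_zero s (fun e => by have := congrFun e (Sum.inl 0); simp at this) h
  · rw [one_smul]

theorem exists_Ca_iso : Nonempty (↥Ca ≃* Multiplicative (ZMod 2) × Cfsg.PSp 3 (ZMod 2)) := by
  classical
  have := Fi22.order_facts.1
  obtain ⟨hrange, hker⟩ := piA_facts
  let π' : ↥Ca →* ↥rho6.range := (MulEquiv.subgroupCongr hrange).toMonoidHom.comp piA.rangeRestrict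
  let F : ↥Ca →* ℤˣ × ↥rho6.range := chi.prod π'
  have hF : Function.Injective F := by
    refine (injective_iff_map_eq_one F).2 fun g hg => ?_
    have h1 : chi g = 1 := congrArg Prod.fst hg
    have h2 : piA g = 1 := congrArg (fun x => (x.2 : Equiv.Perm (Fin 63))) hg
    have h := Nat.card_eq_two_iff' (1 : piA.ker) |>.1 hker
    by_contra hne
    have he : (⟨g, h2⟩ : piA.ker) = ⟨aA, aA_ker⟩ :=
      h.unique (fun e => hne (congrArg Subtype.val e)) (fun e => aA_ne (congrArg Subtype.val e))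
    have he' : g = aA := congrArg Subtype.val he
    rw [he', chi_aA] at h1
    exact absurd h1 (by decide)
  have hcard : Nat.card (ℤˣ × ↥rho6.range) = Nat.card ↥Ca := by
    rw [Nat.card_prod, ← Nat.card_congr (MonoidHom.ofInjective rho6_inj).toEquiv, card_Sp6, card_Ca,
      Nat.card_eq_fintype_card, Fintype.card_units_int]
  have hb : Function.Bijective F := (Nat.bijective_iff_injective_and_card F).2 ⟨hF, hcard.symm⟩
  have h2 : Nat.card ℤˣ = 2 := by rw [Nat.card_eq_fintype_card, Fintype.card_units_int]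
  have h2' : Nat.card (Multiplicative (ZMod 2)) = 2 := by
    rw [Nat.card_congr Multiplicative.toAdd, Nat.card_zmod]
  exact ⟨(MulEquiv.ofBijective F hb).trans (MulEquiv.prodCongr (mulEquivOfPrimeCardEq h2 h2')
    ((MonoidHom.ofInjective rho6_inj).symm.trans
      (QuotientGroup.quotientBot.symm.trans (QuotientGroup.quotientMulEquivOfEq center_Sp6.symm))))⟩

end Cfsg.Agent.Fi22OutInv
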