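import Cfsg.Agent.Lib.Fi22OutInv.Classify
import Cfsg.Agent.Lib.Fi22OutInv.Symp
import Cfsg.Agent.Lib.Fi22OutInv.Six

/-!
The three classes of outer involutions, and transport to groups of type M(22).
-/

set_option autoImplicit false
set_option maxRecDepth 100000
set_option linter.style.haveILetI false

namespace Cfsg.Agent.Fi22OutInv

open Cfsg.Agent.CosetCert
open Cfsg.Agent.CosetData
open Cfsg.Agent.FischerPresented
open Cfsg.Agent.Fi22Local

local notation "AA" => MulAut GG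

theorem sigma_order : orderOf sigma = 2 := by
  refine orderOf_eq_prime (MulEquiv.ext fun y => ?_) fun h => ?_
  · rw [pow_two, MulAut.mul_apply]
    exact Fi22Outer.sigma_sigma y
  · refine Out22.not_inner (σ := sigma) (fun x hx => Fi22Outer.sigma_gen hx) ?_
    rw [h]
    exact one_mem _

theorem sigma_not_inner : sigma ∉ (MulAut.conj : GG →* AA).range :=
  Out22.not_inner (σ := sigma) fun x hx => Fi22Outer.sigma_gen hx

theorem conj_sq {x : GG} (hx : x * x = 1) : MulAut.conj x * MulAut.conj x = (1 : AA) := by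
  rw [← map_mul, hx, map_one]

theorem D_eq {d : GG} (hd : d ∈ Fi22Class.D) : d * d = 1 := by
  obtain ⟨p, hp, rfl⟩ := exists_trN hd
  exact trN_sq' hp

theorem unfix {t c f : AA} {d : GG} (hd : d * d = 1) (h : c * f * c⁻¹ = t * MulAut.conj d) :
    t = c * (f * MulAut.conj (c⁻¹ d)) * c⁻¹ := by
  have e : c * MulAut.conj (c⁻¹ d) * c⁻¹ = MulAut.conj d := by
    ext v
    simp [MulAut.mul_apply, MulAut.conj_apply]
  calc t = t * MulAut.conj d * MulAut.conj d := by rw [mul_assoc, conj_sq hd, mul_one]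
    _ = c * f * c⁻¹ * (c * MulAut.conj (c⁻¹ d) * c⁻¹) := by rw [h, e]
    _ = _ := by group

theorem fix_back {t c f : AA} {d : GG} (hd : d * d = 1) (hfix : t d = d)
    (h : c * f * c⁻¹ = t * MulAut.conj d) : f (c⁻¹ d) = c⁻¹ d := by
  have e : (c * f * c⁻¹) d = d := by
    rw [h, MulAut.mul_apply, MulAut.conj_apply, mul_inv_cancel_right, hfix]
  have := congrArg (fun v => c⁻¹ v) e
  simpa [MulAut.mul_apply] using this

theorem conj_commutes {f : AA} {g x : GG} (hg : f g = g) :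
    MulAut.conj g * (f * MulAut.conj x) * (MulAut.conj g)⁻¹ = f * MulAut.conj (g * x * g⁻¹) := by
  ext v
  simp [MulAut.mul_apply, MulAut.conj_apply, map_mul, hg, mul_assoc]

theorem P2_isConj {t : AA} (h : P2 t) : IsConj t sA := by
  obtain ⟨d, hd, hfix, hc⟩ := h
  obtain ⟨c, hc⟩ := isConj_iff.1 hc
  have hd2 := D_eq hd
  have hx : c⁻¹ d ∈ Fi22Class.D := Fi22Outer.aut_D _ hd
  have hfx := fix_back hd2 hfix hc
  obtain ⟨p, hp, hpe⟩ := exists_trN hx
  rw [← hpe] at hfx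
  obtain ⟨g, hg, e⟩ := fixed_cover hp ((pt_sigma.fix_iff hp).1 hfx)
  have h1 : IsConj t (sigma * MulAut.conj (c⁻¹ d)) := by
    refine IsConj.symm (isConj_iff.2 ⟨c, ?_⟩)
    exact (unfix hd2 hc).symm
  refine h1.trans (IsConj.symm (isConj_iff.2 ⟨MulAut.conj g, ?_⟩))
  rw [sA, conj_commutes (IIs_le hg), ← trN_apt g pa_lt, e, hpe]

theorem P3_isConj {t : AA} (h : P3 t) : IsConj t sigma ∨ IsConj t sB := by
  obtain ⟨d, hd, hfix, hc⟩ := h
  obtain ⟨c, hc⟩ := isConj_iff.1 (P2_isConj hc).symm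
  have hd2 := D_eq hd
  have hfx := fix_back hd2 hfix hc
  obtain ⟨p, hp, hpe⟩ := exists_trN (Fi22Outer.aut_D c⁻¹ hd)
  rw [← hpe] at hfx
  have h1 : IsConj t (sA * MulAut.conj (c⁻¹ d)) := IsConj.symm (isConj_iff.2 ⟨c, (unfix hd2 hc).symm⟩)
  rw [← hpe] at h1
  obtain ⟨-, -, hp' | ⟨x, hx, hxe⟩⟩ := fix_sA hp hfx
  · refine Or.inl (h1.trans ?_)
    rw [hp', sA, mul_assoc, conj_sq (trN_sq' pa_lt), mul_one]
  · refine Or.inr (h1.trans ?_)
    obtain ⟨g, hg, e⟩ := pair_reach hx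
    have hgA : sA g = g := mem_FG.1 (FG_sA.symm ▸ hg : g ∈ FG sA)
    refine IsConj.symm (isConj_iff.2 ⟨MulAut.conj g, ?_⟩)
    rw [sB_eq, conj_commutes hgA, ← trN_apt g pb_lt, e, hxe]

theorem classify_three (t : AA) (h2 : orderOf t = 2) (hout : t ∉ (MulAut.conj : GG →* AA).range) :
    IsConj t sigma ∨ IsConj t sA ∨ IsConj t sB := by
  rcases classify t h2 hout with h | h | h
  · exact Or.inl (IsConj.symm h)
  · exact Or.inr (Or.inl (P2_isConj h))
  · rcases P3_isConj h with h | h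
    · exact Or.inl h
    · exact Or.inr (Or.inr h)

theorem not_conj : ¬ IsConj sigma sA ∧ ¬ IsConj sigma sB ∧ ¬ IsConj sA sB := by
  refine ⟨fun h => ?_, fun h => ?_, fun h => ?_⟩
  · have := card_FG_of_conj h
    rw [FG_sA, card_Ca, show Nat.card (FG sigma) = 1045094400 from card_Cs] at this
    omega
  · have := card_FG_of_conj h
    rw [card_FG_sB, show Nat.card (FG sigma) = 1045094400 from card_Cs] at this
    omega
  · have := card_FG_of_conj h
    rw [FG_sA, card_Ca, card_FG_sB] at this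
    omega

/-! ### Transport -/

theorem pCore_equiv {H K : Type*} [Group H] [Group K] [Finite H] [Finite K] (p : ℕ) [Fact p.Prime] (e : H ≃* K) :
    (Cfsg.pCore p H).map e.toMonoidHom = Cfsg.pCore p K := by
  refine le_antisymm (le_sSup ⟨(FiniteGroup.pCore_normal p).map _ e.surjective,
    (FiniteGroup.pCore_isPGroup p).map _⟩) ?_
  intro x hx
  have h : (Cfsg.pCore p K).map e.symm.toMonoidHom ≤ Cfsg.pCore p H :=
    le_sSup ⟨(FiniteGroup.pCore_normal p).map _ e.symm.surjective, (FiniteGroup.pCore_isPGroup p).map _⟩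
  exact ⟨e.symm x, h ⟨x, hx, rfl⟩, e.apply_symm_apply x⟩

universe u

variable {G : Type u} [Group G] [Finite G] {D : Set G}

theorem transport (Φ : GG ≃* G) (hΦ : Φ '' Fi22Class.D = D) :
    ∃ (s : MulAut G) (a b : G) (Cs : Subgroup G), orderOf s = 2 ∧ s ∉ (MulAut.conj : G →* MulAut G).range ∧
    (∀ g : G, g ∈ Cs ↔ s g = g) ∧
    Nonempty (↥Cs ≃* MulAut (Cfsg.Omega (ZMod 2) (Cfsg.quadFormPlus 4 (ZMod 2)))) ∧
    a ∈ D ∧ b ∈ D ∧ a ≠ b ∧ Commute a b ∧ s a = a ∧ s b = b ∧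
    (∀ t : MulAut G, orderOf t = 2 → t ∉ (MulAut.conj : G →* MulAut G).range →
      (IsConj t s ∨ IsConj t (s * MulAut.conj a) ∨ IsConj t (s * MulAut.conj (a * b)))) ∧
    ¬ IsConj s (s * MulAut.conj a) ∧ ¬ IsConj s (s * MulAut.conj (a * b)) ∧
    ¬ IsConj (s * MulAut.conj a) (s * MulAut.conj (a * b)) ∧
    (∀ g : G, (s * MulAut.conj a) g = g ↔ g ∈ Cs ⊓ Subgroup.centralizer ({a} : Set G)) ∧
    Nonempty (↥(Cs ⊓ Subgroup.centralizer ({a} : Set G)) ≃* Multiplicative (ZMod 2) × Cfsg.PSp 3 (ZMod 2)) ∧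
    ∃ Csab O : Subgroup G, (∀ g : G, g ∈ Csab ↔ (s * MulAut.conj (a * b)) g = g) ∧
      O = (Cfsg.pCore 2 ↥Csab).map Csab.subtype ∧ Cfsg.IsElementaryAbelian 2 O ∧ Nat.card O = 64 ∧
      ∃ _ : (O.subgroupOf Csab).Normal, Nonempty (↥Csab ⧸ O.subgroupOf Csab ≃*
        Cfsg.isometryGroup (ZMod 2) (Cfsg.quadFormMinus 2 (ZMod 2) 1 1)) := by
  haveI : Fact (Nat.Prime 2) := ⟨Nat.prime_two⟩
  have := Fi22.order_facts.1
  let Λ : AA ≃* MulAut G := MulAut.congr Φ
  have hΛ : ∀ (f : AA) (x : GG), Λ f (Φ x) = Φ (f x) := fun f x => by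
    show Φ (f (Φ.symm (Φ x))) = _
    rw [Φ.symm_apply_apply]
  have hconj : ∀ x : GG, Λ (MulAut.conj x) = MulAut.conj (Φ x) := fun x => by
    ext v
    obtain ⟨w, rfl⟩ := Φ.surjective v
    rw [hΛ, MulAut.conj_apply, MulAut.conj_apply, map_mul, map_mul, map_inv]
  have hinner : ∀ f : AA, Λ f ∈ (MulAut.conj : G →* MulAut G).range ↔
      f ∈ (MulAut.conj : GG →* AA).range := fun f => by
    constructor
    · rintro ⟨y, hy⟩
      obtain ⟨x, rfl⟩ := Φ.surjective y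
      exact ⟨x, Λ.injective ((hconj x).trans hy)⟩
    · rintro ⟨x, rfl⟩
      exact ⟨Φ x, (hconj x).symm⟩
  have hmem : ∀ (f : AA) (g : G), g ∈ (FG f).map Φ.toMonoidHom ↔ Λ f g = g := fun f g => by
    obtain ⟨w, rfl⟩ := Φ.surjective g
    rw [hΛ, Φ.injective.eq_iff, Subgroup.mem_map_equiv, Φ.symm_apply_apply]
    exact mem_FG
  have hA : Λ sigma * MulAut.conj (Φ (trN pa)) = Λ sA := by rw [← hconj, ← map_mul, sA]
  have hB : Λ sigma * MulAut.conj (Φ (trN pa) * Φ (trN pb)) = Λ sB := by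
    rw [← map_mul Φ, ← hconj, ← map_mul, sB]
  have hiso : ∀ {f f' : AA}, IsConj (Λ f) (Λ f') ↔ IsConj f f' := fun {f f'} => by
    rw [isConj_iff, isConj_iff]
    constructor
    · rintro ⟨c, hc⟩
      obtain ⟨c', rfl⟩ := Λ.surjective c
      exact ⟨c', Λ.injective (by rw [map_mul, map_mul, map_inv, hc])⟩
    · rintro ⟨c, rfl⟩
      exact ⟨Λ c, by rw [map_mul, map_mul, map_inv]⟩
  have hCa : (FG sigma).map Φ.toMonoidHom ⊓ Subgroup.centralizer ({Φ (trN pa)} : Set G) =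
      (FG sA).map Φ.toMonoidHom := by
    rw [FG_sA, Subgroup.map_inf _ _ _ Φ.injective]
    congr 1
    ext x
    obtain ⟨w, rfl⟩ := Φ.surjective x
    rw [Subgroup.mem_map_equiv, Φ.symm_apply_apply, Subgroup.mem_centralizer_singleton_iff,
      Subgroup.mem_centralizer_singleton_iff, ← map_mul, ← map_mul, Φ.injective.eq_iff]
  refine ⟨Λ sigma, Φ (trN pa), Φ (trN pb), (FG sigma).map Φ.toMonoidHom, ?_, ?_, hmem sigma, ?_,
    hΦ ▸ ⟨_, trN_mem pa_lt, rfl⟩, hΦ ▸ ⟨_, trN_mem pb_lt, rfl⟩,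
    fun h => absurd (trN_inj pa_lt pb_lt (Φ.injective h)) (by decide), ?_, ?_, ?_, ?_, ?_, ?_, ?_, ?_, ?_, ?_⟩
  · exact (orderOf_injective Λ.toMonoidHom Λ.injective _).trans sigma_order
  · exact fun h => sigma_not_inner ((hinner _).1 h)
  · obtain ⟨e⟩ := exists_Cs_iso
    exact ⟨((FG sigma).equivMapOfInjective Φ.toMonoidHom Φ.injective).symm.trans e⟩
  · have hc : Commute (trN pa) (trN pb) :=
      (apt_fix_iff (trN pa) pb_lt).1 (by
        rw [apt_trN pa_lt pb_lt, ← (tappF_eq pa_lt pb_lt).1]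
        decide +kernel)
    exact hc.map Φ.toMonoidHom
  · rw [hΛ, (pt_sigma.fix_iff pa_lt).2 sP_pa]
  · rw [hΛ, (pt_sigma.fix_iff pb_lt).2 (by decide +kernel)]
  · intro t h2 hout
    obtain ⟨f, rfl⟩ := Λ.surjective t
    rw [hA, hB, hiso, hiso, hiso]
    exact classify_three f ((orderOf_injective Λ.toMonoidHom Λ.injective f).symm.trans h2)
      fun h => hout ((hinner f).2 h)
  · rw [hA, hiso]; exact not_conj.1
  · rw [hB, hiso]; exact not_conj.2.1
  · rw [hA, hB, hiso]; exact not_conj.2.2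
  · intro g
    rw [hA, hCa, hmem]
  · obtain ⟨e⟩ := exists_Ca_iso
    exact ⟨(MulEquiv.subgroupCongr (hCa.trans (by rw [FG_sA]))).trans
      ((Ca.equivMapOfInjective Φ.toMonoidHom Φ.injective).symm.trans e)⟩
  · obtain ⟨O, hO, hel, hcard, hn, ⟨e⟩⟩ := six_structure
    let ι := (FG sB).equivMapOfInjective Φ.toMonoidHom Φ.injective
    have hsub : (O.subgroupOf (FG sB)).map ι.toMonoidHom =
        (O.map Φ.toMonoidHom).subgroupOf ((FG sB).map Φ.toMonoidHom) := by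
      ext x
      constructor
      · rintro ⟨y, hy, rfl⟩
        exact ⟨_, hy, rfl⟩
      · rintro ⟨y, hy, he⟩
        have hyB : y ∈ FG sB := by
          obtain ⟨z, hz, hze⟩ := x.2
          rwa [← Φ.injective (hze.trans he.symm)]
        exact ⟨⟨y, hyB⟩, hy, Subtype.ext he⟩
    haveI hn' : ((O.map Φ.toMonoidHom).subgroupOf ((FG sB).map Φ.toMonoidHom)).Normal :=
      hsub ▸ hn.map ι.toMonoidHom ι.surjective
    refine ⟨(FG sB).map Φ.toMonoidHom, O.map Φ.toMonoidHom, ?_, ?_, ?_, ?_, hn', ?_⟩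
    · intro g
      rw [hB, hmem]
    · rw [← pCore_equiv 2 ι, hO, Subgroup.map_map, Subgroup.map_map]
      rfl
    · refine ⟨⟨⟨?_⟩⟩, ?_⟩
      · rintro ⟨_, x, hx, rfl⟩ ⟨_, y, hy, rfl⟩
        refine Subtype.ext ?_
        show Φ x * Φ y = Φ y * Φ x
        rw [← map_mul, ← map_mul]
        exact congrArg Φ (congrArg Subtype.val (hel.1.is_comm.comm ⟨x, hx⟩ ⟨y, hy⟩))
      · rintro _ ⟨x, hx, rfl⟩
        show Φ x ^ 2 = 1
        rw [← map_pow, hel.2 x hx, map_one]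
    · rw [Subgroup.card_map_of_injective Φ.injective, hcard]
    · exact ⟨(QuotientGroup.congr _ _ ι hsub).symm.trans e⟩

end Cfsg.Agent.Fi22OutInv
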