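import Cfsg.Agent.Lib.Fi22OutInv.StabChecks
import Cfsg.Agent.Lib.Fi22Local.EightAut
import Cfsg.Agent.Lib.CoT.Image

/-!
The fixed subgroup of the diagram symmetry and of its product with a fixed transposition.
-/

set_option autoImplicit false
set_option maxRecDepth 100000
set_option linter.style.haveILetI false

namespace Cfsg.Agent.Fi22OutInv

open Cfsg.Agent.CosetCert
open Cfsg.Agent.CosetData
open Cfsg.Agent.FischerPresented
open Cfsg.Agent.Fi22Local

local notation "AA" => MulAut GG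

/-- The fixed subgroup of an automorphism. -/
noncomputable def FG (f : AA) : Subgroup GG where
  carrier := {g | f g = g}
  mul_mem' := fun {a b} (ha : f a = a) (hb : f b = b) => show f (a * b) = a * b by rw [map_mul, ha, hb]
  one_mem' := map_one f
  inv_mem' := fun {a} (ha : f a = a) => show f a⁻¹ = a⁻¹ by rw [map_inv, ha]

theorem mem_FG {f : AA} {g : GG} : g ∈ FG f ↔ f g = g := Iff.rfl

theorem FG_conj (f g : AA) : FG (g * f * g⁻¹) = (FG f).map g.toMonoidHom := by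
  ext x
  rw [Subgroup.mem_map_equiv, mem_FG, mem_FG, MulAut.mul_apply, MulAut.mul_apply]
  show g (f (g.symm x)) = x ↔ f (g.symm x) = g.symm x
  constructor
  · intro h
    apply g.injective
    rw [h, MulEquiv.apply_symm_apply]
  · intro h
    rw [h, MulEquiv.apply_symm_apply]

theorem card_FG_of_conj {f f' : AA} (h : IsConj f f') : Nat.card (FG f) = Nat.card (FG f') := by
  obtain ⟨c, rfl⟩ := isConj_iff.1 h
  rw [FG_conj, Subgroup.card_map_of_injective c.injective]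

theorem FG_moves {f : AA} {g : GG} (hg : g ∈ FG f) {p : ℕ} (hp : p < 3510) (hfix : f (trN p) = trN p) :
    f (trN (apt g p)) = trN (apt g p) := by
  rw [trN_apt g hp, map_mul, map_mul, map_inv, mem_FG.1 hg, hfix]

theorem apt_inv_cancel (g : GG) {p : ℕ} : apt g⁻¹ (apt g p) = p := by
  rw [← apt_mul, inv_mul_cancel, apt_one]

/-! ### Orbit lists -/

theorem orb_reach {gens : List ℕ} {root : ℕ} {L : List (ℕ × ℕ × ℕ)} (h : orbOK gens root L = true)
    (hg : ∀ q ∈ gens, q < 3510) :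
    ∀ x ∈ L, x.1 < 3510 ∧ ∃ g ∈ Subgroup.closure {y | ∃ q ∈ gens, y = trN q}, apt g root = x.1 := by
  simp only [orbOK, Bool.and_eq_true, Nat.beq_eq] at h
  obtain ⟨hroot, hall⟩ := h
  suffices key : ∀ n < L.length, orbPt L n < 3510 ∧
      ∃ g ∈ Subgroup.closure {y | ∃ q ∈ gens, y = trN q}, apt g root = orbPt L n by
    intro x hx
    obtain ⟨n, hn, rfl⟩ := List.getElem_of_mem hx
    have := key n hn
    rwa [orbPt, List.getD_eq_getElem _ _ hn] at this
  intro n
  induction n using Nat.strong_induction_on with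
  | _ n ih =>
    intro hn
    have hh := allBelow_spec hall hn
    simp only [Bool.and_eq_true, Bool.or_eq_true, Nat.blt_eq, Nat.beq_eq] at hh
    obtain ⟨hlt, hh⟩ := hh
    refine ⟨hlt, ?_⟩
    rcases hh with rfl | ⟨hk, hj, he⟩
    · exact ⟨1, one_mem _, by rw [apt_one, hroot]⟩
    · obtain ⟨hjlt, g, hgm, e⟩ := ih _ hj (hj.trans hn)
      have hm : gens.getD (L.getD n (0, 0, 0)).2.1 0 ∈ gens := by
        rw [List.getD_eq_getElem _ _ hk]
        exact List.getElem_mem _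
      refine ⟨trN _ * g, mul_mem (Subgroup.subset_closure ⟨_, hm, rfl⟩) hgm, ?_⟩
      rw [apt_mul, e, apt_trN (hg _ hm) hjlt, ← (tappF_eq (hg _ hm) hjlt).1, he]

/-! ### The fixed subgroup of the symmetry -/

/-- The fixed subgroup of the symmetry. -/
noncomputable abbrev Cs : Subgroup GG := FG sigma

/-- The conjugating element. -/
noncomputable def uG : GG := prodT uL.reverse

/-- The conjugate of the subgroup of three classes. -/
noncomputable def IIs : Subgroup GG := Eight.II.map (MulAut.conj uG).toMonoidHom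

theorem uL_facts : ptsL uL.reverse = true ∧ gF.length = 9 ∧ pa ∈ gF ∧ ∀ k < 9,
    tl uL.reverse ((Eight.sPt :: Eight.g8).getD k 0) = gF.getD k 0 ∧ gF.getD k 0 < 3510 ∧
      sP (gF.getD k 0) = gF.getD k 0 := by
  have h := uL_checked
  simp only [Bool.and_eq_true, Nat.beq_eq, List.any_eq_true] at h
  obtain ⟨h1, h2, h3, q, hq, hqe⟩ := h
  refine ⟨ptsL_reverse.trans h1, h2, hqe ▸ hq, fun k hk => ?_⟩
  have := allBelow_spec h3 hk
  simp only [Bool.and_eq_true, Nat.beq_eq, Nat.blt_eq] at this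
  exact this

theorem gF_facts {q : ℕ} (hq : q ∈ gF) : q < 3510 ∧ sP q = q ∧ trN q ∈ IIs := by
  obtain ⟨hu, hlen, -, hk⟩ := uL_facts
  obtain ⟨k, hk9, rfl⟩ := List.getElem_of_mem hq
  obtain ⟨h1, h2, h3⟩ := hk k (hlen ▸ hk9)
  rw [← List.getD_eq_getElem _ 0 hk9]
  refine ⟨h2, h3, ?_⟩
  have hmem : (Eight.sPt :: Eight.g8).getD k 0 ∈ Eight.sPt :: Eight.g8 := by
    rw [List.getD_eq_getElem _ _ (show k < (Eight.sPt :: Eight.g8).length from hlen ▸ hk9)]
    exact List.getElem_mem _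
  have hlt : (Eight.sPt :: Eight.g8).getD k 0 < 3510 :=
    Nat.blt_eq.mp (List.all_eq_true.1 Eight.pts_ok.2.1 _ hmem)
  refine ⟨trN ((Eight.sPt :: Eight.g8).getD k 0), Eight.gen_mem hmem, ?_⟩
  show uG * _ * uG⁻¹ = _
  rw [← trN_apt _ hlt, uG, (tl_spec hu hlt).1, h1]

theorem IIs_eq : IIs = Subgroup.closure {y | ∃ q ∈ gF, y = trN q} := by
  refine le_antisymm ?_ ((Subgroup.closure_le _).2 ?_)
  · rw [IIs, Subgroup.map_le_iff_le_comap, Eight.II, Subgroup.closure_le]
    rintro _ ⟨p, hp, rfl⟩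
    obtain ⟨hu, hlen, -, hk⟩ := uL_facts
    obtain ⟨k, hk9, rfl⟩ := List.getElem_of_mem hp
    obtain ⟨h1, h2, -⟩ := hk k hk9
    have hlt : (Eight.sPt :: Eight.g8)[k] < 3510 :=
      Nat.blt_eq.mp (List.all_eq_true.1 Eight.pts_ok.2.1 _ (List.getElem_mem hk9))
    refine Subgroup.subset_closure ⟨gF.getD k 0, ?_, ?_⟩
    · rw [List.getD_eq_getElem _ _ (show k < gF.length by rw [hlen]; exact hk9)]
      exact List.getElem_mem _
    · show uG * _ * uG⁻¹ = _
      rw [← trN_apt _ hlt, uG, (tl_spec hu hlt).1, ← h1, List.getD_eq_getElem _ _ hk9]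
  · rintro _ ⟨q, hq, rfl⟩
    exact (gF_facts hq).2.2

theorem pa_lt : pa < 3510 := by decide

theorem pb_lt : pb < 3510 := by decide

theorem orbF_spec {x : ℕ × ℕ × ℕ} (hx : x ∈ orbF) :
    x.1 < 3510 ∧ sP x.1 = x.1 ∧ ∃ g ∈ IIs, apt g pa = x.1 := by
  obtain ⟨h1, h2⟩ := orb_reach orbF_checked (fun q hq => (gF_facts hq).1) x hx
  rw [← IIs_eq] at h2
  exact ⟨h1, Nat.eq_of_beq_eq_true (List.all_eq_true.1 orbF_fixed x hx), h2⟩

theorem fixed_cover {p : ℕ} (hp : p < 3510) (h : sP p = p) : ∃ g ∈ IIs, apt g pa = p := by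
  have hc := allBelow_spec orbF_cover hp
  simp only [h, Nat.beq_refl, Bool.not_true, Bool.false_or, List.any_eq_true, Nat.beq_eq] at hc
  obtain ⟨x, hx, rfl⟩ := hc
  exact (orbF_spec hx).2.2

theorem trN_mem_IIs {p : ℕ} (hp : p < 3510) (h : sP p = p) : trN p ∈ IIs := by
  obtain ⟨g, hg, e⟩ := fixed_cover hp h
  rw [← e, trN_apt g pa_lt]
  exact mul_mem (mul_mem hg (gF_facts uL_facts.2.2.1).2.2) (inv_mem hg)

theorem IIs_le : IIs ≤ Cs := by
  rw [IIs_eq, Subgroup.closure_le]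
  rintro _ ⟨q, hq, rfl⟩
  exact (pt_sigma.fix_iff (gF_facts hq).1).2 (gF_facts hq).2.1

theorem normalizer_II : Subgroup.normalizer ((Eight.II : Subgroup GG) : Set GG) ≤ Eight.II := by
  have := Fi22.order_facts.1
  have := Fact.mk (show Nat.Prime 5 by norm_num)
  intro g hg
  have hE : P5.E ≤ Eight.II := Eight.E_le_J.trans Eight.J_le_II
  have hmap : P5.E.map (MulAut.conj g).toMonoidHom ≤ Eight.II := by
    rintro _ ⟨y, hy, rfl⟩
    exact (Subgroup.mem_normalizer_iff.1 hg y).1 (hE hy)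
  have hfac : (Nat.card ↥Eight.II).factorization 5 = 2 := by
    refine le_antisymm ?_ ?_
    · have h1 : (Nat.card GG).factorization 5 = 2 :=
        factorization_GG (c := 2 ^ 17 * 3 ^ 9 * 7 * 11 * 13) (by norm_num) (by rw [card_GG]; norm_num)
          (by norm_num)
      rw [← h1]
      exact (Nat.factorization_le_iff_dvd Nat.card_pos.ne' Nat.card_pos.ne').2 (Subgroup.card_subgroup_dvd_card _) 5
    · refine (Nat.Prime.pow_dvd_iff_le_factorization (by norm_num) Nat.card_pos.ne').1 ?_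
      have := Subgroup.card_dvd_of_le hE
      rwa [P5.card_E] at this
  have hP : Nat.card (P5.E.subgroupOf Eight.II) = 5 ^ (Nat.card ↥Eight.II).factorization 5 := by
    rw [hfac, Nat.card_congr (Subgroup.subgroupOfEquivOfLe hE).toEquiv, P5.card_E]; norm_num
  have hQ : Nat.card ((P5.E.map (MulAut.conj g).toMonoidHom).subgroupOf Eight.II) =
      5 ^ (Nat.card ↥Eight.II).factorization 5 := by
    rw [hfac, Nat.card_congr (Subgroup.subgroupOfEquivOfLe hmap).toEquiv,
      Subgroup.card_map_of_injective (MulAut.conj g).injective, P5.card_E]; norm_num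
  obtain ⟨h, hh⟩ := MulAction.exists_smul_eq ↥Eight.II (Sylow.ofCard _ hP) (Sylow.ofCard _ hQ)
  have hh' : (P5.E.subgroupOf Eight.II).map (MulAut.conj h).toMonoidHom =
      (P5.E.map (MulAut.conj g).toMonoidHom).subgroupOf Eight.II :=
    congrArg Sylow.toSubgroup hh
  have hle : P5.E.map (MulAut.conj ((h : GG)⁻¹ * g)).toMonoidHom ≤ P5.E := by
    rintro _ ⟨y, hy, rfl⟩
    have hm : (⟨g * y * g⁻¹, (Subgroup.mem_normalizer_iff.1 hg y).1 (hE hy)⟩ : ↥Eight.II) ∈
        (P5.E.subgroupOf Eight.II).map (MulAut.conj h).toMonoidHom := by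
      rw [hh']
      exact ⟨y, hy, rfl⟩
    obtain ⟨z, hz, e⟩ := hm
    have e' : (h : GG) * (z : GG) * (h : GG)⁻¹ = g * y * g⁻¹ := congrArg Subtype.val e
    show ((h : GG)⁻¹ * g) * y * ((h : GG)⁻¹ * g)⁻¹ ∈ P5.E
    rw [show ((h : GG)⁻¹ * g) * y * ((h : GG)⁻¹ * g)⁻¹ = (h : GG)⁻¹ * (g * y * g⁻¹) * h by group, ← e']
    simpa [mul_assoc] using Subgroup.mem_subgroupOf.1 hz
  have hmem : (h : GG)⁻¹ * g ∈ Eight.NE :=
    Subgroup.mem_normalizer_iff_map_conj_eq.2 (Subgroup.eq_of_le_of_card_ge hle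
      (le_of_eq (Subgroup.card_map_of_injective (MulAut.conj _).injective).symm))
  simpa using mul_mem h.2 (Eight.NE_le_II hmem)

/-- The fixed subgroup of the symmetry is the conjugate of the subgroup of three classes. -/
theorem Cs_eq : Cs = IIs := by
  refine le_antisymm (fun g hg => ?_) IIs_le
  have hle : IIs.map (MulAut.conj g).toMonoidHom ≤ IIs := by
    nth_rewrite 1 [IIs_eq]
    rw [MonoidHom.map_closure, Subgroup.closure_le]
    rintro _ ⟨_, ⟨q, hq, rfl⟩, rfl⟩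
    show g * trN q * g⁻¹ ∈ IIs
    obtain ⟨hlt, hs, -⟩ := gF_facts hq
    rw [← trN_apt g hlt]
    exact trN_mem_IIs (apt_lt g hlt)
      ((pt_sigma.fix_iff (apt_lt g hlt)).1 (FG_moves hg hlt ((pt_sigma.fix_iff hlt).2 hs)))
  have := Fi22.order_facts.1
  have hn : g ∈ Subgroup.normalizer ((IIs : Subgroup GG) : Set GG) :=
    Subgroup.mem_normalizer_iff_map_conj_eq.2 (Subgroup.eq_of_le_of_card_ge hle
      (le_of_eq (Subgroup.card_map_of_injective (MulAut.conj g).injective).symm))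
  rw [IIs, ← Subgroup.map_equiv_normalizer_eq] at hn
  obtain ⟨y, hy, rfl⟩ := hn
  exact ⟨y, normalizer_II hy, rfl⟩

theorem card_II : Nat.card ↥Eight.II = 1045094400 := by
  obtain ⟨e⟩ := Eight.exists_II_iso
  rw [Nat.card_congr e.toEquiv, Eight.card_aut_omega]
  have h : Nat.card ↥(Cfsg.Omega (ZMod 2) (Cfsg.quadFormPlus 4 (ZMod 2))) = 174182400 := CoT.card_Om
  rw [h]

theorem card_Cs : Nat.card Cs = 1045094400 := by
  rw [Cs_eq, IIs, Subgroup.card_map_of_injective (MulAut.conj uG).injective, card_II]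

theorem exists_Cs_iso :
    Nonempty (↥Cs ≃* MulAut ↥(Cfsg.Omega (ZMod 2) (Cfsg.quadFormPlus 4 (ZMod 2)))) := by
  obtain ⟨e⟩ := Eight.exists_II_iso
  exact ⟨(MulEquiv.subgroupCongr Cs_eq).trans
    ((Eight.II.equivMapOfInjective (MulAut.conj uG).toMonoidHom (MulAut.conj uG).injective).symm.trans e)⟩

/-! ### Transitivity and the stabiliser of a point -/

/-- The stabiliser of the first point in the fixed subgroup. -/
noncomputable abbrev Ca : Subgroup GG := Cs ⊓ Subgroup.centralizer ({trN pa} : Set GG)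

theorem sP_pa : sP pa = pa := (gF_facts uL_facts.2.2.1).2.1

theorem mem_Ca {g : GG} : g ∈ Ca ↔ g ∈ Cs ∧ apt g pa = pa := by
  rw [Subgroup.mem_inf, Subgroup.mem_centralizer_singleton_iff, apt_fix_iff g pa_lt]
  rfl

theorem card_Ca : Nat.card Ca = 2903040 := by
  classical
  have := Fi22.order_facts.1
  let f : ↥Cs →* Equiv.Perm (Fin 3510) := Out22.hm.comp Cs.subtype
  letI : MulAction ↥Cs (Fin 3510) := MulAction.compHom _ f
  have hsmul : ∀ (g : ↥Cs) (p : Fin 3510), ((g • p : Fin 3510) : ℕ) = apt (g : GG) p := fun g p =>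
    (apt_of_lt (g : GG) p.2).symm
  have horb : Nat.card (MulAction.orbit ↥Cs (⟨pa, pa_lt⟩ : Fin 3510)) = 360 := by
    rw [← Out22.sig_fixed, Out22.countBelow_eq, Nat.card_coe_set_eq]
    refine congrArg Set.ncard (Set.ext fun p => ?_)
    rw [Set.mem_setOf_eq, Nat.beq_eq]
    constructor
    · rintro ⟨g, rfl⟩
      show sP _ = _
      rw [hsmul]
      exact (pt_sigma.fix_iff (apt_lt _ pa_lt)).1 (FG_moves g.2 pa_lt ((pt_sigma.fix_iff pa_lt).2 sP_pa))
    · intro h
      obtain ⟨g, hg, e⟩ := fixed_cover p.2 h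
      exact ⟨⟨g, IIs_le hg⟩, Fin.ext ((hsmul _ _).trans e)⟩
  have hst : MulAction.stabilizer ↥Cs (⟨pa, pa_lt⟩ : Fin 3510) = Ca.subgroupOf Cs := by
    ext g
    rw [MulAction.mem_stabilizer_iff, Subgroup.mem_subgroupOf, mem_Ca, Fin.ext_iff, hsmul]
    exact ⟨fun h => ⟨g.2, h⟩, fun h => h.2⟩
  have h := Subgroup.card_mul_index (MulAction.stabilizer ↥Cs (⟨pa, pa_lt⟩ : Fin 3510))
  rw [MulAction.index_stabilizer, ← Nat.card_coe_set_eq, horb, hst,
    Nat.card_congr (Subgroup.subgroupOfEquivOfLe inf_le_left).toEquiv, card_Cs] at h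
  have h' : Nat.card ↥Ca * 360 = 1045094400 := h
  omega

/-- The symmetry times the first transposition. -/
noncomputable def sA : AA := sigma * MulAut.conj (trN pa)

theorem pt_sA : Pt sA fun p => sP (tappF pa p) := pt_sigma.mul (pt_trN pa_lt)

theorem fix_sA {p : ℕ} (hp : p < 3510) (h : sA (trN p) = trN p) :
    tappF pa p = p ∧ sP p = p ∧ (p = pa ∨ ∃ x ∈ orbA, x.1 = p) := by
  have e := (pt_sA.fix_iff hp).1 h
  have hc := allBelow_spec orbA_cover hp
  simp only [e, Nat.beq_refl, Bool.not_true, Bool.false_or, Bool.and_eq_true, Bool.or_eq_true,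
    List.any_eq_true, Nat.beq_eq] at hc
  exact hc

theorem orbA_spec {x : ℕ × ℕ × ℕ} (hx : x ∈ orbA) :
    x.1 < 3510 ∧ sP x.1 = x.1 ∧ tappF pa x.1 = x.1 ∧ x.1 ≠ pa ∧
      ∃ y ∈ orbA, tappF x.1 y.1 ≠ y.1 := by
  have h := orbA_fixed
  rw [Bool.and_eq_true] at h
  have h1 := List.all_eq_true.1 h.1 x hx
  simp only [Bool.and_eq_true, Nat.beq_eq, Bool.not_eq_true', List.any_eq_true] at h1
  obtain ⟨h2, h3, h4, y, hy, h5⟩ := h1
  obtain ⟨n, hn, rfl⟩ := List.getElem_of_mem hx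
  have hall := orbA_checked
  simp only [orbOK, Bool.and_eq_true] at hall
  have hlt := allBelow_spec hall.2 hn
  simp only [Bool.and_eq_true, Nat.blt_eq, orbPt, List.getD_eq_getElem _ _ hn] at hlt
  exact ⟨hlt.1, h2, h3, Nat.ne_of_beq_eq_false h4, y, hy, Nat.ne_of_beq_eq_false h5⟩

theorem sA_orbA {x : ℕ × ℕ × ℕ} (hx : x ∈ orbA) : sA (trN x.1) = trN x.1 := by
  obtain ⟨hlt, hs, hc, -⟩ := orbA_spec hx
  exact (pt_sA.fix_iff hlt).2 (show sP (tappF pa x.1) = x.1 by rw [hc, hs])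

theorem sA_pa : sA (trN pa) = trN pa := by
  rw [sA, MulAut.mul_apply, MulAut.conj_apply, mul_inv_cancel_right]
  exact (pt_sigma.fix_iff pa_lt).2 sP_pa

/-- The fixed subgroup of the symmetry times the transposition. -/
theorem FG_sA : FG sA = Ca := by
  ext g
  constructor
  · intro hg
    obtain ⟨-, -, hp⟩ := fix_sA (apt_lt g pa_lt) (FG_moves hg pa_lt sA_pa)
    have hfix : apt g pa = pa := by
      rcases hp with hp | ⟨x, hx, hxe⟩
      · exact hp
      · exfalso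
        obtain ⟨hlt, -, -, -, y, hy, hne⟩ := orbA_spec hx
        obtain ⟨hylt, -⟩ := orbA_spec hy
        have hr := FG_moves (inv_mem hg) hylt (sA_orbA hy)
        obtain ⟨hc, -⟩ := fix_sA (apt_lt g⁻¹ hylt) hr
        rw [(tappF_eq pa_lt (apt_lt g⁻¹ hylt)).1] at hc
        have hm := apt_tapp g pa_lt (apt_lt g⁻¹ hylt)
        rw [hc, ← apt_mul, mul_inv_cancel, apt_one, ← hxe] at hm
        exact hne ((tappF_eq hlt hylt).1.trans hm.symm)
    refine mem_Ca.2 ⟨?_, hfix⟩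
    have hc := (apt_fix_iff g pa_lt).1 hfix
    have h := mem_FG.1 hg
    rw [sA, MulAut.mul_apply, MulAut.conj_apply, ← hc.eq, mul_inv_cancel_right] at h
    exact h
  · intro hg
    obtain ⟨h1, h2⟩ := mem_Ca.1 hg
    show sA g = g
    rw [sA, MulAut.mul_apply, MulAut.conj_apply, ← ((apt_fix_iff g pa_lt).1 h2).eq, mul_inv_cancel_right]
    exact h1

theorem genA_facts {q : ℕ} (hq : q ∈ genA) : q < 3510 ∧ trN q ∈ Ca := by
  have h := orbA_fixed
  rw [Bool.and_eq_true] at h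
  have h1 := List.all_eq_true.1 h.2 q hq
  simp only [List.any_eq_true, Nat.beq_eq] at h1
  obtain ⟨x, hx, rfl⟩ := h1
  obtain ⟨hlt, hs, hc, -⟩ := orbA_spec hx
  refine ⟨hlt, mem_Ca.2 ⟨(pt_sigma.fix_iff hlt).2 hs, ?_⟩⟩
  rw [apt_fix_iff _ pa_lt]
  exact ((apt_fix_iff (trN pa) hlt).1 (by rw [apt_trN pa_lt hlt, ← (tappF_eq pa_lt hlt).1, hc])).symm

/-- The stabiliser of the first point moves the second one to each of its neighbours. -/
theorem pair_reach {x : ℕ × ℕ × ℕ} (hx : x ∈ orbA) : ∃ g ∈ Ca, apt g pb = x.1 := by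
  obtain ⟨-, g, hg, e⟩ := orb_reach orbA_checked (fun q hq => (genA_facts hq).1) x hx
  refine ⟨g, (Subgroup.closure_le _).2 ?_ hg, e⟩
  rintro _ ⟨q, hq, rfl⟩
  exact (genA_facts hq).2

end Cfsg.Agent.Fi22OutInv
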