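import Cfsg.Agent.Lib.Fi22OutInv.Basic
import Cfsg.Agent.Lib.Fi22Local.EightData

/-! Kernel checks for the fixed points of the diagram symmetry of presented Fi22. -/

set_option autoImplicit false
set_option maxRecDepth 100000
set_option Elab.async false

namespace Cfsg.Agent.Fi22OutInv

open Cfsg.Agent.CosetCert
open Cfsg.Agent.CosetData
open Cfsg.Agent.FischerPresented
open Cfsg.Agent.Fi22Local

/-- A point of an orbit list. -/
def orbPt (L : List (ℕ × ℕ × ℕ)) (n : ℕ) : ℕ := (L.getD n (0, 0, 0)).1

/-- The orbit list is generated from its first point. -/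
noncomputable def orbOK (gens : List ℕ) (root : ℕ) (L : List (ℕ × ℕ × ℕ)) : Bool :=
  Nat.beq (orbPt L 0) root && allBelow (fun n => Nat.blt (orbPt L n) 3510 && (Nat.beq n 0 ||
    (Nat.blt (L.getD n (0, 0, 0)).2.1 gens.length && (Nat.blt (L.getD n (0, 0, 0)).2.2 n &&
      Nat.beq (tappF (gens.getD (L.getD n (0, 0, 0)).2.1 0) (orbPt L (L.getD n (0, 0, 0)).2.2))
        (orbPt L n))))) L.length

theorem uL_checked : (ptsL uL && (Nat.beq gF.length 9 && (allBelow (fun k =>
    Nat.beq (tl uL.reverse ((Eight.sPt :: Eight.g8).getD k 0)) (gF.getD k 0) &&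
      (Nat.blt (gF.getD k 0) 3510 && Nat.beq (sP (gF.getD k 0)) (gF.getD k 0))) 9 &&
    (gF.any fun q => Nat.beq q pa)))) = true := by
  decide +kernel

theorem orbF_checked : orbOK gF pa orbF = true := by decide +kernel

theorem orbF_fixed : (orbF.all fun x => Nat.beq (sP x.1) x.1) = true := by decide +kernel

theorem orbF_cover : allBelow (fun p => !(Nat.beq (sP p) p) || orbF.any fun x => Nat.beq x.1 p) 3510 = true := by
  decide +kernel

theorem orbA_checked : orbOK genA pb orbA = true := by decide +kernel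

theorem orbA_fixed : ((orbA.all fun x => Nat.beq (sP x.1) x.1 && (Nat.beq (tappF pa x.1) x.1 &&
      (!Nat.beq x.1 pa && orbA.any fun y => !Nat.beq (tappF x.1 y.1) y.1))) &&
    genA.all fun q => orbA.any fun x => Nat.beq x.1 q) = true := by
  decide +kernel

theorem orbA_cover : allBelow (fun p => !(Nat.beq (sP (tappF pa p)) p) ||
    (Nat.beq (tappF pa p) p && (Nat.beq (sP p) p && (Nat.beq p pa || orbA.any fun x => Nat.beq x.1 p)))) 3510
      = true := by
  decide +kernel

end Cfsg.Agent.Fi22OutInv
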